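import Groth.Agent.LocSuppLib.ClosedAdj
import Groth.Prelude.Def_SuppFam

/-! # Sections with supports preserve injectives -/

universe u

set_option linter.style.haveILetI false

open CategoryTheory CategoryTheory.Limits TopologicalSpace

namespace LocSuppLib

variable {X : TopCat.{u}}

lemma injective_sectSuppF (U : Opens X) (F : CohTop.Ab X) [Injective F] :
    Injective ((LocCohZ.sectSuppF U).obj F) := by
  haveI : PreservesLimitsOfSize.{0, 0} (CohTop.push (CohCx.inclCompl U)) :=
    (TopCat.Sheaf.pullbackPushforwardAdjunction AddCommGrpCat.{u} (CohCx.inclCompl U)).rightAdjoint_preservesLimits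
  haveI : PreservesFiniteLimits (CohTop.push (CohCx.inclCompl U)) := PreservesLimitsOfSize.preservesFiniteLimits _
  haveI : (CohTop.push (CohCx.inclCompl U)).PreservesMonomorphisms := inferInstance
  have h : Injective ((CohTop.pull (CohCx.inclCompl U)).obj ((LocCohZ.sectSuppF U).obj F)) :=
    Injective.injective_of_adjoint (pushSuppAdj U) F
  haveI := isIso_unit_of_isSupp U _ (isSupp_sectSupp U F)
  refine Injective.of_iso (asIso ((TopCat.Sheaf.pullbackPushforwardAdjunction AddCommGrpCat.{u}
    (CohCx.inclCompl U)).unit.app ((LocCohZ.sectSuppF U).obj F))).symm ?_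
  exact @CohTopLib.injective_pf _ _ (CohCx.inclCompl U) _ h

lemma injective_sectSuppLC {W V : Opens X} (h : W ≤ V) (F : CohTop.Ab X) [Injective F] :
    Injective ((SuppFam.sectSuppLC h).obj F) := by
  haveI := injective_restr V F
  exact @CohTopLib.injective_pf _ _ (CohCx.incl V) _
    (injective_sectSuppF (X := TopCat.of V) (SuppFam.inOpen V W) ((CohTop.restrFunctor V).obj F))

end LocSuppLib
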