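import Mathlib.Algebra.Homology.HomologicalComplexAbelian
import Mathlib.CategoryTheory.Preadditive.Injective.Basic
import Mathlib.Algebra.Homology.ShortComplex.PreservesHomology
import Mathlib.Algebra.Homology.ShortComplex.Exact
import Mathlib.Algebra.Homology.ShortComplex.HomologicalComplex

/-! # Left exact functors on complexes of injectives exact in low degrees -/

universe v v' u u'

open CategoryTheory CategoryTheory.Limits

set_option linter.style.haveILetI false

namespace LocSuppLib

variable {A : Type u} [Category.{v} A] [Abelian A] {B : Type u'} [Category.{v'} B] [Abelian B]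
  (K : CochainComplex A ℕ) (hK : ∀ m, Injective (K.X m))

lemma isZero_cycles_zero (h : K.ExactAt 0) : IsZero (K.cycles 0) := by
  haveI : IsIso (K.homologyπ 0) := ShortComplex.isIso_homologyπ (K.sc 0) (K.shape _ _ (by simp))
  exact ((K.exactAt_iff_isZero_homology 0).mp h).of_iso (asIso (K.homologyπ 0))

lemma epi_toCycles (k : ℕ) (h : K.ExactAt (k + 1)) : Epi (K.toCycles k (k + 1)) := by
  have hc := ShortComplex.exact_of_g_is_cokernel (ShortComplex.mk _ _ (K.toCycles_comp_homologyπ k (k + 1)))
    (K.homologyIsCokernel k (k + 1) (by simp))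
  exact hc.epi_f (((K.exactAt_iff_isZero_homology (k + 1)).mp h).eq_of_tgt _ _)

include hK in
lemma injective_cycles : ∀ (k : ℕ), (∀ i, i ≤ k → K.ExactAt i) → Injective (K.cycles k)
  | 0, h => Injective.of_iso (isZero_cycles_zero K (h 0 le_rfl)).isoZero.symm inferInstance
  | k + 1, h => by
    haveI := injective_cycles k fun i hi => h i (Nat.le_succ_of_le hi)
    haveI := epi_toCycles K k (h (k + 1) le_rfl)
    haveI := hK k
    let S := ShortComplex.mk (K.iCycles k) (K.toCycles k (k + 1)) (by
      rw [← cancel_mono (K.iCycles (k + 1)), Category.assoc, K.toCycles_i, K.iCycles_d, zero_comp])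
    have hS : S.Exact := by
      let T := ShortComplex.mk (K.iCycles k) (K.d k (k + 1)) (K.iCycles_d k (k + 1))
      let φ : S ⟶ T := { τ₁ := 𝟙 _, τ₂ := 𝟙 _, τ₃ := K.iCycles (k + 1), comm₁₂ := by simp [S, T], comm₂₃ := by simp [S, T] }
      haveI : Epi φ.τ₁ := inferInstanceAs (Epi (𝟙 _))
      haveI : IsIso φ.τ₂ := inferInstanceAs (IsIso (𝟙 _))
      haveI : Mono φ.τ₃ := inferInstanceAs (Mono (K.iCycles (k + 1)))
      exact (ShortComplex.exact_iff_of_epi_of_isIso_of_mono φ).2
        (ShortComplex.exact_of_f_is_kernel T (K.cyclesIsKernel k (k + 1) (by simp)))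
    let σ := (ShortComplex.ShortExact.mk hS : S.ShortExact).splittingOfInjective
    exact (Retract.injective ⟨σ.s, S.g, σ.s_g⟩)

variable (G : A ⥤ B) [G.Additive] [PreservesFiniteLimits G]

include hK in
/-- A left exact functor keeps exactness of a complex of injectives in low degrees. -/
theorem exactAt_map_of_injective (n : ℕ) (h : ∀ i, i ≤ n → K.ExactAt i) :
    ((G.mapHomologicalComplex (ComplexShape.up ℕ)).obj K).ExactAt n := by
  rw [HomologicalComplex.exactAt_iff' _ ((ComplexShape.up ℕ).prev n) n (n + 1) rfl (by simp [CochainComplex.next])]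
  let T := ShortComplex.mk (K.iCycles n) (K.d n (n + 1)) (K.iCycles_d n (n + 1))
  have hT : (T.map G).Exact ∧ Mono (G.map T.f) :=
    ((Functor.preservesFiniteLimits_tfae G).out 1 3 rfl rfl).mpr inferInstance T
      ⟨ShortComplex.exact_of_f_is_kernel T (K.cyclesIsKernel n (n + 1) (by simp)), inferInstanceAs (Mono (K.iCycles n))⟩
  let S := ((G.mapHomologicalComplex (ComplexShape.up ℕ)).obj K).sc' ((ComplexShape.up ℕ).prev n) n (n + 1)
  let φ : S ⟶ T.map G :=
    { τ₁ := G.map (K.toCycles ((ComplexShape.up ℕ).prev n) n), τ₂ := 𝟙 _, τ₃ := 𝟙 _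
      comm₁₂ := by
        refine Eq.trans ?_ (Category.comp_id _).symm
        exact (G.map_comp _ _).symm.trans (congrArg G.map (K.toCycles_i _ _))
      comm₂₃ := by exact (Category.id_comp _).trans (Category.comp_id _).symm }
  haveI : Epi φ.τ₁ := by
    cases n with
    | zero =>
      exact (Functor.map_isZero G (isZero_cycles_zero K (h 0 le_rfl))).epi _
    | succ k =>
      haveI := epi_toCycles K k (h (k + 1) le_rfl)
      haveI := hK k
      haveI := injective_cycles K hK k fun i hi => h i (Nat.le_succ_of_le hi)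
      let S' := ShortComplex.mk (K.iCycles k) (K.toCycles k (k + 1)) (by
        rw [← cancel_mono (K.iCycles (k + 1)), Category.assoc, K.toCycles_i, K.iCycles_d, zero_comp])
      have hS : S'.Exact := by
        let T' := ShortComplex.mk (K.iCycles k) (K.d k (k + 1)) (K.iCycles_d k (k + 1))
        let ψ : S' ⟶ T' := { τ₁ := 𝟙 _, τ₂ := 𝟙 _, τ₃ := K.iCycles (k + 1), comm₁₂ := by simp [S', T'], comm₂₃ := by simp [S', T'] }
        haveI : Epi ψ.τ₁ := inferInstanceAs (Epi (𝟙 _))
        haveI : IsIso ψ.τ₂ := inferInstanceAs (IsIso (𝟙 _))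
        haveI : Mono ψ.τ₃ := inferInstanceAs (Mono (K.iCycles (k + 1)))
        exact (ShortComplex.exact_iff_of_epi_of_isIso_of_mono ψ).2
          (ShortComplex.exact_of_f_is_kernel T' (K.cyclesIsKernel k (k + 1) (by simp)))
      let σ := (ShortComplex.ShortExact.mk hS : S'.ShortExact).splittingOfInjective
      have hp : (ComplexShape.up ℕ).prev (k + 1) = k := by simp
      change Epi (G.map (K.toCycles ((ComplexShape.up ℕ).prev (k + 1)) (k + 1)))
      rw [hp]
      exact SplitEpi.epi ⟨G.map σ.s, (G.map_comp _ _).symm.trans ((congrArg G.map σ.s_g).trans (G.map_id _))⟩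
  haveI : IsIso φ.τ₂ := inferInstanceAs (IsIso (𝟙 _))
  haveI : Mono φ.τ₃ := inferInstanceAs (Mono (𝟙 _))
  exact (ShortComplex.exact_iff_of_epi_of_isIso_of_mono φ).2 hT.1

end LocSuppLib
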