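import Groth.Agent.LocSuppLib.LC
import Groth.Agent.LocSuppLib.LCInj
import Groth.Agent.LocSuppLib.SplitExact

/-! # Local cohomology sheaves of a closed subset through the presheaves of cohomology with supports -/

universe u

set_option linter.style.haveILetI false

open CategoryTheory CategoryTheory.Limits Opposite TopologicalSpace

namespace LocSuppLib

variable {X : TopCat.{u}} (U : Opens X)

/-- `V ↦ ℤ_V/ℤ_{U ∩ V}`. -/
noncomputable def zqFunC : Opens X ⥤ CohTop.Ab X where
  obj V := LocCohZ.zq (inf_le_right : U ⊓ V ≤ V)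
  map {A B} g := LocCohZ.zqMap (inf_le_right : U ⊓ B ≤ B) (inf_le_right : U ⊓ A ≤ A)
    (inf_le_inf_left U (leOfHom g)) (leOfHom g)
  map_id _ := SuppFam.zqMap_id _
  map_comp _ _ := (SuppFam.zqMap_comp _ _ _ _ _ _ _).symm

lemma supp_mem_iff (F : CohTop.Ab X) (V : Opens X) (s : F.obj.obj (op V)) :
    (CohLib.suppUnit U F).hom.app (op V) s = 0 ↔ F.obj.map (homOfLE (inf_le_right : U ⊓ V ≤ V)).op s = 0 := by
  refine (CohLib.suppUnit_app_eq_zero_iff U F V s).trans ?_
  constructor <;> intro h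
  · refine Eq.trans ?_ ((congrArg (F.obj.map (homOfLE (le_of_eq (inf_comm U V))).op) h).trans (map_zero _))
    exact (res_res F.obj _ _ _ s).symm
  · refine Eq.trans ?_ ((congrArg (F.obj.map (homOfLE (le_of_eq (inf_comm V U))).op) h).trans (map_zero _))
    exact (res_res F.obj _ _ _ s).symm

/-- A section of `Γ_Z(F)` as a section of `F` vanishing on `U`. -/
noncomputable def suppSec (F : CohTop.Ab X) (V : Opens X) :
    ((LocCohZ.sectSuppF U).obj F).obj.obj (op V) →+ LocCohZ.sectZ F (inf_le_right : U ⊓ V ≤ V) :=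
  (((suppι U).app F).hom.app (op V)).hom.codRestrict _ fun s => by
    rw [AddMonoidHom.mem_ker]
    refine (supp_mem_iff U F V _).1 ?_
    exact congrArg (fun f => f.hom.app (op V) s) (kernel.condition (CohLib.suppUnit U F))

lemma suppSec_bijective (F : CohTop.Ab X) (V : Opens X) : Function.Bijective (suppSec U F V) := by
  let φ := CohLib.suppUnit U F
  let S : ShortComplex (CohTop.Ab X) := ShortComplex.mk _ _ (kernel.condition φ)
  let G := sheafToPresheaf (Opens.grothendieckTopology X) AddCommGrpCat.{u} ⋙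
    (evaluation _ AddCommGrpCat.{u}).obj (op V)
  obtain ⟨hex, hmono⟩ := ((Functor.preservesFiniteLimits_tfae G).out 1 3 rfl rfl).mpr inferInstance S
    ⟨ShortComplex.exact_of_f_is_kernel _ (kernelIsKernel φ), (inferInstance : Mono (kernel.ι φ))⟩
  refine ⟨fun s t hst => (AddCommGrpCat.mono_iff_injective _).1 hmono (congrArg Subtype.val hst), fun t => ?_⟩
  obtain ⟨s, hs⟩ := (ShortComplex.ab_exact_iff _).1 hex t.1 ((supp_mem_iff U F V t.1).2 t.2)
  exact ⟨s, Subtype.ext hs⟩

/-- Sections of `Γ_Z(F)` are maps out of `ℤ_V/ℤ_{U ∩ V}`. -/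
noncomputable def suppEquiv (F : CohTop.Ab X) (V : Opens X) :
    ((LocCohZ.sectSuppF U).obj F).obj.obj (op V) ≃+ ((zqFunC U).obj V ⟶ F) :=
  (AddEquiv.ofBijective _ (suppSec_bijective U F V)).trans (CohLib.zqHom F _).symm

lemma zqHom_suppEquiv (F : CohTop.Ab X) (V : Opens X) (s : ((LocCohZ.sectSuppF U).obj F).obj.obj (op V)) :
    (CohLib.zqHom F (inf_le_right : U ⊓ V ≤ V) (suppEquiv U F V s)).1 = ((suppι U).app F).hom.app (op V) s :=
  congrArg Subtype.val ((CohLib.zqHom F (inf_le_right : U ⊓ V ≤ V)).apply_symm_apply (suppSec U F V s))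

/-- `Γ_Z` as a functor to presheaves. -/
noncomputable def closedIso :
    LocCohZ.sectSuppF U ⋙ sheafToPresheaf (Opens.grothendieckTopology X) AddCommGrpCat.{u} ≅ homPre (zqFunC U) :=
  NatIso.ofComponents (fun F => NatIso.ofComponents (fun V => (suppEquiv U F V.unop).toAddCommGrpIso)
    (fun {A B} f => by
      ext s
      apply (CohLib.zqHom F (inf_le_right : U ⊓ B.unop ≤ B.unop)).injective
      apply Subtype.ext
      refine (zqHom_suppEquiv U F B.unop _).trans ?_
      refine Eq.trans ?_ (zqHom_zqMap F (inf_le_right : U ⊓ A.unop ≤ A.unop) (inf_le_right : U ⊓ B.unop ≤ B.unop)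
        (inf_le_inf_left U (leOfHom f.unop)) (leOfHom f.unop) (suppEquiv U F A.unop s)).symm
      rw [zqHom_suppEquiv]
      exact (NatTrans.naturality_apply ((suppι U).app F).hom f s).trans
        (congrArg (fun g => F.obj.map g _) (Subsingleton.elim _ _))))
    (fun {F G} φ => by
      ext V s
      apply (CohLib.zqHom G (inf_le_right : U ⊓ V.unop ≤ V.unop)).injective
      apply Subtype.ext
      refine (zqHom_suppEquiv U G V.unop _).trans ?_
      refine Eq.trans ?_ (CohLib.zqHom_comp φ _ (suppEquiv U F V.unop s)).symm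
      rw [zqHom_suppEquiv]
      exact congrArg (fun f => f.hom.app (op V.unop) s) ((suppι U).naturality φ))

variable (F : CohTop.Ab X)

/-- Sections of the complex `Γ_Z(R)` compute cohomology with supports. -/
theorem nonempty_secHomology_iso (R : InjectiveResolution F) (q : ℕ) :
    Nonempty (((((LocCohZ.sectSuppF U) ⋙ sheafToPresheaf (Opens.grothendieckTopology X) AddCommGrpCat.{u}).mapHomologicalComplex
      (ComplexShape.up ℕ)).obj R.cocomplex).homology q ≅ extPre (zqFunC U) F q) := by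
  obtain ⟨e⟩ := nonempty_homCx_homology_iso (zqFunC U) R q
  exact ⟨ShortComplex.homologyMapIso ((R.cocomplex.sc q).mapNatIso (closedIso U)) ≪≫ e⟩

/-- If the sheaves `ℋ^i_Z(F)` vanish below `n`, so do the groups `H^i_{Z ∩ V}(V, F)`. -/
theorem subsingleton_HZ_of_isZero (n : ℕ) (h : ∀ i < n, IsZero ((LocCohZ.HZsh U i).obj F))
    (i : ℕ) (hi : i < n) (V : Opens X) : Subsingleton (LocCohZ.HZ F i (inf_le_right : U ⊓ V ≤ V)) := by
  let R : InjectiveResolution F := injectiveResolution F
  let K := ((LocCohZ.sectSuppF U).mapHomologicalComplex (ComplexShape.up ℕ)).obj R.cocomplex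
  have hex : ((((sheafToPresheaf (Opens.grothendieckTopology X) AddCommGrpCat.{u})).mapHomologicalComplex
      (ComplexShape.up ℕ)).obj K).ExactAt i :=
    exactAt_map_of_injective K (fun m => by
      haveI := R.injective m
      exact injective_sectSuppF U (R.cocomplex.X m)) _ i fun j hj =>
        (K.exactAt_iff_isZero_homology j).2 ((h j (lt_of_le_of_lt hj hi)).of_iso
          (R.isoRightDerivedObj (LocCohZ.sectSuppF U) j).symm)
  obtain ⟨e⟩ := nonempty_secHomology_iso U F R i
  have hz := ((((sheafToPresheaf (Opens.grothendieckTopology X) AddCommGrpCat.{u})).mapHomologicalComplex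
      (ComplexShape.up ℕ)).obj K).exactAt_iff_isZero_homology i |>.1 hex
  exact AddCommGrpCat.subsingleton_of_isZero (IsZero.obj (hz.of_iso e.symm) (op V))

/-- If `H^i_{Z ∩ V}(V, F)` vanishes for the opens of a basis, the sheaf `ℋ^i_Z(F)` is zero. -/
theorem isZero_HZsh_of_subsingleton {B : Set (Opens X)} (hB : Opens.IsBasis B) (i : ℕ)
    (h : ∀ V ∈ B, Subsingleton (LocCohZ.HZ F i (inf_le_right : U ⊓ V ≤ V))) :
    IsZero ((LocCohZ.HZsh U i).obj F) := by
  let J := Opens.grothendieckTopology X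
  let R : InjectiveResolution F := injectiveResolution F
  let a := presheafToSheaf J AddCommGrpCat.{u}
  haveI : a.Additive := (sheafificationAdjunction J AddCommGrpCat.{u}).left_adjoint_additive
  obtain ⟨e⟩ := nonempty_secHomology_iso U F R i
  let S := (((LocCohZ.sectSuppF U).mapHomologicalComplex _).obj R.cocomplex).sc i
  have e' : (LocCohZ.HZsh U i).obj F ≅ a.obj (extPre (zqFunC U) F i) :=
    R.isoRightDerivedObj (LocCohZ.sectSuppF U) i ≪≫
    (ShortComplex.homologyMapIso ((S.mapNatIso (asIso (sheafificationAdjunction J AddCommGrpCat.{u}).counit)) ≪≫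
      Iso.refl _)).symm ≪≫
    (S.map (sheafToPresheaf J AddCommGrpCat.{u})).mapHomologyIso a ≪≫ a.mapIso e
  refine IsZero.of_iso ?_ e'
  rw [IsZero.iff_id_eq_zero]
  apply ((sheafificationAdjunction J AddCommGrpCat.{u}).homEquiv _ _).injective
  ext V s
  apply TopCat.Presheaf.section_ext (show TopCat.Sheaf AddCommGrpCat X from a.obj (extPre (zqFunC U) F i)) V.unop
  intro x hx
  obtain ⟨W, hW, hxW, hWV⟩ := Opens.isBasis_iff_nbhd.mp hB hx
  have := h W hW
  rw [← TopCat.Presheaf.germ_res_apply _ (homOfLE hWV) x hxW,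
    ← TopCat.Presheaf.germ_res_apply _ (homOfLE hWV) x hxW]
  refine congrArg _ ?_
  refine (NatTrans.naturality_apply _ (homOfLE hWV).op s).symm.trans ?_
  refine Eq.trans ?_ (NatTrans.naturality_apply _ (homOfLE hWV).op s)
  rw [Subsingleton.elim (α := LocCohZ.HZ F i (inf_le_right : U ⊓ W ≤ W)) ((extPre (zqFunC U) F i).map (homOfLE hWV).op s) 0]
  exact (map_zero _).trans (map_zero _).symm

lemma img_inOpen (V : Opens X) :
    V.isOpenEmbedding.functor.obj (SuppFam.inOpen V U) = U ⊓ V := by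
  ext x
  exact ⟨fun ⟨y, hy, e⟩ => e ▸ ⟨hy, y.2⟩, fun hx => ⟨⟨x, hx.2⟩, hx.1, rfl⟩⟩

lemma img_top' (V : Opens X) : V.isOpenEmbedding.functor.obj ⊤ = V := by
  ext x
  exact ⟨fun ⟨y, _, e⟩ => e ▸ y.2, fun hx => ⟨⟨x, hx⟩, trivial, rfl⟩⟩

/-- Sections with supports of a restriction. -/
noncomputable def sectZRestr (V : Opens X) :
    LocCohZ.sectZ F (inf_le_right : U ⊓ V ≤ V) ≃+
      LocCohZ.sectZ (X := TopCat.of V) ((CohTop.restrFunctor V).obj F) (le_top : SuppFam.inOpen V U ≤ ⊤) where
  toFun s := ⟨F.obj.map (homOfLE (img_top' V).le).op s.1, by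
    change F.obj.map _ (F.obj.map _ s.1) = 0
    refine Eq.trans ?_ ((congrArg (F.obj.map (homOfLE (img_inOpen U V).le).op) s.2).trans (map_zero _))
    exact (res_res F.obj _ _ (homOfLE ((img_inOpen U V).le.trans inf_le_right)).op s.1).trans
      (res_res F.obj _ _ _ s.1).symm⟩
  invFun t := ⟨F.obj.map (homOfLE (img_top' V).ge).op t.1, by
    change F.obj.map _ (F.obj.map _ t.1) = 0
    refine Eq.trans ?_ ((congrArg (F.obj.map (homOfLE (img_inOpen U V).ge).op) t.2).trans (map_zero _))
    exact (res_res F.obj _ _ (homOfLE (inf_le_right.trans (img_top' V).ge)).op t.1).trans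
      (res_res F.obj _ _ _ t.1).symm⟩
  left_inv s := Subtype.ext (res_self F.obj _ _ _)
  right_inv t := Subtype.ext (res_self F.obj _ _ _)
  map_add' s t := Subtype.ext (map_add (F.obj.map (homOfLE (img_top' V).le).op).hom s.1 t.1)

/-- Excision. -/
theorem nonempty_HZ_restr_equiv (V : Opens X) (i : ℕ) :
    Nonempty (LocCohZ.HZ F i (inf_le_right : U ⊓ V ≤ V) ≃+
      LocCohZ.HZc (X := TopCat.of V) ((CohTop.restrFunctor V).obj F) i (SuppFam.inOpen V U)) := by
  haveI : (CohTop.restrFunctor V).Additive := Functor.additive_of_iso (pullIsoRestr V)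
  haveI : PreservesFiniteLimits (CohTop.restrFunctor V) := preservesFiniteLimits_of_natIso (pullIsoRestr V)
  haveI : PreservesFiniteColimits (CohTop.restrFunctor V) :=
    ⟨fun J _ _ => preservesColimitsOfShape_of_natIso (pullIsoRestr V)⟩
  haveI : (CohTop.restrFunctor V).PreservesHomology := Functor.preservesHomologyOfExact _
  haveI : (CohTop.restrFunctor V).PreservesInjectiveObjects := ⟨fun {I} hI => @injective_restr _ V I hI⟩
  let R : InjectiveResolution F := injectiveResolution F
  let K := ((preadditiveCoyoneda.obj (op (LocCohZ.zq (inf_le_right : U ⊓ V ≤ V)))).mapHomologicalComplex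
    (ComplexShape.up ℕ)).obj R.cocomplex
  let e : ∀ G : CohTop.Ab X, (LocCohZ.zq (inf_le_right : U ⊓ V ≤ V) ⟶ G) ≃+
      (LocCohZ.zq (X := TopCat.of V) (le_top : SuppFam.inOpen V U ≤ ⊤) ⟶ (CohTop.restrFunctor V).obj G) := fun G =>
    ((CohLib.zqHom G _).trans (sectZRestr U G V)).trans (CohLib.zqHom _ _).symm
  have he : ∀ {G G' : CohTop.Ab X} (φ : G ⟶ G') x, e G' (x ≫ φ) = e G x ≫ (CohTop.restrFunctor V).map φ := by
    intro G G' φ x
    apply (CohLib.zqHom _ (le_top : SuppFam.inOpen V U ≤ ⊤)).injective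
    apply Subtype.ext
    rw [CohLib.zqHom_comp]
    simp only [e, AddEquiv.trans_apply, AddEquiv.apply_symm_apply]
    change G'.obj.map _ (CohLib.zqHom G' _ (x ≫ φ)).1 = φ.hom.app _ (G.obj.map _ _)
    rw [CohLib.zqHom_comp]
    exact (NatTrans.naturality_apply φ.hom _ _).symm
  obtain ⟨a⟩ := CohLib.nonempty_homology_iso_ext_of_injective R K (fun m => AddEquiv.refl _) (fun m x => rfl) i
  obtain ⟨b⟩ := CohLib.nonempty_homology_iso_ext_of_injective (mapRes (CohTop.restrFunctor V) R) K
    (fun m => e (R.cocomplex.X m)) (fun m x => he _ x) i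
  exact ⟨(a.symm ≪≫ b).addCommGroupIsoToAddEquiv⟩

end LocSuppLib
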