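import Groth.Agent.LocSuppLib.SplitExact

/-! # Left exact functors and the first nonzero cohomology of complexes of injectives -/

universe v v' u u'

open CategoryTheory CategoryTheory.Limits

set_option linter.style.haveILetI false

namespace LocSuppLib

variable {A : Type u} [Category.{v} A] [Abelian A] {B : Type u'} [Category.{v'} B] [Abelian B]
  (K : CochainComplex A ℕ) (G : A ⥤ B) [G.Additive] [PreservesFiniteLimits G]

/-- A left exact functor commutes with the cohomology of a complex of injectives in the first degree where the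
complex is not exact. -/
theorem nonempty_homology_map_iso (hK : ∀ m, Injective (K.X m)) (n : ℕ) (h : ∀ i, i < n → K.ExactAt i) :
    Nonempty (((G.mapHomologicalComplex (ComplexShape.up ℕ)).obj K).homology n ≅ G.obj (K.homology n)) := by
  cases n with
  | zero =>
    haveI h0 : IsIso (K.homologyπ 0) := ShortComplex.isIso_homologyπ (K.sc 0) (K.shape _ _ (by simp))
    haveI : IsIso (((G.mapHomologicalComplex (ComplexShape.up ℕ)).obj K).homologyπ 0) :=
      ShortComplex.isIso_homologyπ _ (((G.mapHomologicalComplex (ComplexShape.up ℕ)).obj K).shape _ _ (by simp))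
    exact ⟨(asIso (((G.mapHomologicalComplex (ComplexShape.up ℕ)).obj K).homologyπ 0)).symm ≪≫
      (((G.mapHomologicalComplex (ComplexShape.up ℕ)).obj K).sc 0).cyclesIsoKernel ≪≫
      (PreservesKernel.iso G (K.sc 0).g).symm ≪≫ G.mapIso ((K.sc 0).cyclesIsoKernel.symm ≪≫ @asIso _ _ _ _ (K.homologyπ 0) h0)⟩
  | succ k =>
    let t := K.toCycles k (k + 1)
    let π := K.homologyπ (k + 1)
    have w : t ≫ π = 0 := K.toCycles_comp_homologyπ k (k + 1)
    have hex : (ShortComplex.mk t π w).Exact :=
      ShortComplex.exact_of_g_is_cokernel _ (K.homologyIsCokernel k (k + 1) (by simp))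
    let p : K.X k ⟶ kernel π := kernel.lift π t w
    have hp : p ≫ kernel.ι π = t := kernel.lift_ι _ _ _
    haveI : Epi p := hex.epi_kernelLift
    have w' : K.iCycles k ≫ p = 0 := by
      rw [← cancel_mono (kernel.ι π), Category.assoc, hp, ← cancel_mono (K.iCycles (k + 1)), Category.assoc,
        K.toCycles_i, K.iCycles_d, zero_comp, zero_comp]
    have hS : (ShortComplex.mk (K.iCycles k) p w').Exact := by
      let T := ShortComplex.mk (K.iCycles k) (K.d k (k + 1)) (K.iCycles_d k (k + 1))
      let φ : ShortComplex.mk (K.iCycles k) p w' ⟶ T :=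
        { τ₁ := 𝟙 _, τ₂ := 𝟙 _, τ₃ := kernel.ι π ≫ K.iCycles (k + 1)
          comm₁₂ := by simp [T]
          comm₂₃ := by simp [T, reassoc_of% hp, t] }
      haveI : Epi φ.τ₁ := inferInstanceAs (Epi (𝟙 _))
      haveI : IsIso φ.τ₂ := inferInstanceAs (IsIso (𝟙 _))
      haveI : Mono φ.τ₃ := inferInstanceAs (Mono (kernel.ι π ≫ K.iCycles (k + 1)))
      exact (ShortComplex.exact_iff_of_epi_of_isIso_of_mono φ).2
        (ShortComplex.exact_of_f_is_kernel T (K.cyclesIsKernel k (k + 1) (by simp)))
    haveI := hK k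
    haveI := injective_cycles K hK k fun i hi => h i (Nat.lt_succ_of_le hi)
    let σ := (ShortComplex.ShortExact.mk hS : (ShortComplex.mk (K.iCycles k) p w').ShortExact).splittingOfInjective
    have hs : σ.s ≫ p = 𝟙 _ := σ.s_g
    haveI : Injective (kernel π) := (Retract.injective ⟨σ.s, p, hs⟩)
    let T₂ := ShortComplex.mk (kernel.ι π) π (kernel.condition π)
    have hT₂ : T₂.ShortExact :=
      { exact := ShortComplex.exact_of_f_is_kernel _ (kernelIsKernel π), mono_f := by dsimp [T₂]; infer_instance,
        epi_g := by dsimp [T₂, π]; infer_instance }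
    let τ := hT₂.splittingOfInjective
    haveI : Epi (G.map π) := SplitEpi.epi ⟨G.map τ.s, (G.map_comp _ _).symm.trans ((congrArg G.map τ.s_g).trans (G.map_id _))⟩
    haveI : Epi (G.map p) := SplitEpi.epi ⟨G.map σ.s, (G.map_comp _ _).symm.trans ((congrArg G.map hs).trans (G.map_id _))⟩
    have hTG : (T₂.map G).Exact :=
      (((Functor.preservesFiniteLimits_tfae G).out 1 3 rfl rfl).mpr inferInstance T₂
        ⟨hT₂.exact, hT₂.mono_f⟩).1
    have w₃ : G.map t ≫ G.map π = 0 := (G.map_comp _ _).symm.trans ((congrArg G.map w).trans (G.map_zero _ _))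
    have hex' : (ShortComplex.mk (G.map t) (G.map π) w₃).Exact := by
      let φ : ShortComplex.mk (G.map t) (G.map π) w₃ ⟶ T₂.map G :=
        { τ₁ := G.map p, τ₂ := 𝟙 _, τ₃ := 𝟙 _
          comm₁₂ := (G.map_comp _ _).symm.trans ((congrArg G.map hp).trans (Category.comp_id _).symm)
          comm₂₃ := (Category.id_comp _).trans (Category.comp_id _).symm }
      haveI : IsIso φ.τ₂ := inferInstanceAs (IsIso (𝟙 _))
      haveI : Mono φ.τ₃ := inferInstanceAs (Mono (𝟙 _))
      haveI : Epi φ.τ₁ := inferInstanceAs (Epi (G.map p))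
      exact (ShortComplex.exact_iff_of_epi_of_isIso_of_mono φ).2 hTG
    let S := ((G.mapHomologicalComplex (ComplexShape.up ℕ)).obj K).sc' k (k + 1) (k + 2)
    have hker : IsLimit (KernelFork.ofι (G.map (K.iCycles (k + 1)))
        (show G.map (K.iCycles (k + 1)) ≫ S.g = 0 from
          (G.map_comp _ _).symm.trans ((congrArg G.map (K.iCycles_d _ _)).trans (G.map_zero _ _)))) :=
      isLimitForkMapOfIsLimit' G (K.iCycles_d (k + 1) (k + 2)) (K.cyclesIsKernel (k + 1) (k + 2) (by simp))
    have hlift : hker.lift (KernelFork.ofι _ S.zero) = G.map t := by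
      apply Fork.IsLimit.hom_ext hker
      refine (hker.fac _ WalkingParallelPair.zero).trans ?_
      exact ((congrArg G.map (K.toCycles_i k (k + 1))).symm.trans (G.map_comp _ _))
    let hd : S.LeftHomologyData :=
      { K := G.obj (K.cycles (k + 1)), H := G.obj (K.homology (k + 1)), i := G.map (K.iCycles (k + 1)), π := G.map π
        wi := (G.map_comp _ _).symm.trans ((congrArg G.map (K.iCycles_d _ _)).trans (G.map_zero _ _))
        hi := hker
        wπ := (congrArg (· ≫ G.map π) hlift).trans w₃
        hπ := CokernelCofork.IsColimit.ofπ' _ _ (fun {Z} g hg => by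
          replace hg : G.map t ≫ g = 0 := (congrArg (· ≫ g) hlift).symm.trans hg
          exact ⟨hex'.desc g hg, hex'.g_desc g hg⟩) }
    exact ⟨(((G.mapHomologicalComplex (ComplexShape.up ℕ)).obj K).homologyIsoSc' k (k + 1) (k + 2) (by simp) (by simp)) ≪≫ hd.homologyIso⟩

end LocSuppLib
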