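import Groth.Agent.LocSuppLib.ExtNat
import Groth.Agent.LocSuppLib.ClosedPre
import Groth.Agent.LocSuppLib.SplitHomology
import Groth.Agent.CohLib.Supp

/-! # Global cohomology with supports -/

universe u

set_option linter.style.haveILetI false

open CategoryTheory CategoryTheory.Limits Opposite TopologicalSpace CategoryTheory.Abelian

namespace LocSuppLib

variable {X : TopCat.{u}} (U : Opens X)

/-- `ℤ_X/ℤ_{U ∩ X} ≅ ℤ_X/ℤ_U`. -/
noncomputable def zqTopIso : (zqFunC U).obj ⊤ ≅ LocCohZ.zq (le_top : U ≤ ⊤) where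
  hom := LocCohZ.zqMap (le_top : U ≤ ⊤) (inf_le_right : U ⊓ ⊤ ≤ ⊤) inf_le_left le_rfl
  inv := LocCohZ.zqMap (inf_le_right : U ⊓ ⊤ ≤ ⊤) (le_top : U ≤ ⊤) (le_inf le_rfl le_top) le_rfl
  hom_inv_id := (SuppFam.zqMap_comp _ _ _ _ _ _ _).trans (SuppFam.zqMap_id _)
  inv_hom_id := (SuppFam.zqMap_comp _ _ _ _ _ _ _).trans (SuppFam.zqMap_id _)

/-- The derived functors of `Γ_Z(X, -)` are `Ext(ℤ_Z, -)`. -/
theorem nonempty_RHZ_iso (q : ℕ) :
    Nonempty (LocCohZ.RHZ U q ≅ ToposFin.HZFunctor (LocCohZ.openSh U) q) := by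
  let ev := (evaluation (Opens X)ᵒᵖ AddCommGrpCat.{u}).obj (op ⊤)
  let e : LocCohZ.gammaZF U ≅ homPre (zqFunC U) ⋙ ev :=
    (Functor.associator _ _ _).symm ≪≫ Functor.isoWhiskerRight (closedIso U) ev
  let e' : LocCohZ.RHZ U q ≅ (homPre (zqFunC U) ⋙ ev).rightDerived q :=
    { hom := NatTrans.rightDerived e.hom q
      inv := NatTrans.rightDerived e.inv q
      hom_inv_id := by rw [← NatTrans.rightDerived_comp, e.hom_inv_id, NatTrans.rightDerived_id]
      inv_hom_id := by rw [← NatTrans.rightDerived_comp, e.inv_hom_id, NatTrans.rightDerived_id] }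
  exact ⟨e' ≪≫ rightDerivedHomIso (zqFunC U) (op ⊤) q ≪≫
    (extFunctor.{u} q).mapIso ((zqTopIso U) ≪≫ LocCohZ.zqIsoQuotZ U).symm.op⟩

variable (F : CohTop.Ab X)

/-- If the sheaves `ℋ^i_Z(F)` vanish below `d`, the global sections of `ℋ^d_Z(F)` are `H^d_Z(X, F)`. -/
theorem nonempty_sections_HZsh_addEquiv (d : ℕ) (h : ∀ i < d, IsZero ((LocCohZ.HZsh U i).obj F)) :
    Nonempty (((LocCohZ.HZsh U d).obj F).obj.obj (op ⊤) ≃+ LocCohZ.HZc F d U) := by
  let R : InjectiveResolution F := injectiveResolution F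
  let K := ((LocCohZ.sectSuppF U).mapHomologicalComplex (ComplexShape.up ℕ)).obj R.cocomplex
  let P := sheafToPresheaf (Opens.grothendieckTopology X) AddCommGrpCat.{u}
  obtain ⟨a⟩ := nonempty_homology_map_iso K P (fun m => by
    haveI := R.injective m
    exact injective_sectSuppF U (R.cocomplex.X m)) d fun j hj =>
      (K.exactAt_iff_isZero_homology j).2 ((h j hj).of_iso (R.isoRightDerivedObj (LocCohZ.sectSuppF U) j).symm)
  obtain ⟨b⟩ := nonempty_secHomology_iso U F R d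
  let c : P.obj ((LocCohZ.HZsh U d).obj F) ≅ extPre (zqFunC U) F d :=
    P.mapIso (R.isoRightDerivedObj (LocCohZ.sectSuppF U) d) ≪≫ a.symm ≪≫ b
  exact ⟨((c.app (op ⊤)) ≪≫ ((extFunctor.{u} d).mapIso (zqTopIso U).symm.op).app F).addCommGroupIsoToAddEquiv⟩

lemma exists_res_top_eq [TopCat.Sheaf.IsFlasque (F : TopCat.Sheaf AddCommGrpCat X)] {V : Opens X}
    (x : F.obj.obj (op V)) : ∃ z, F.obj.map (homOfLE (le_top : V ≤ ⊤)).op z = x :=
  (AddCommGrpCat.epi_iff_surjective (F.obj.map (homOfLE (le_top : V ≤ ⊤)).op)).1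
    (TopCat.Presheaf.IsFlasque.epi _) x

/-- Sections with supports of a flasque sheaf form a flasque sheaf. -/
theorem isFlasque_sectSuppF [TopCat.Sheaf.IsFlasque (F : TopCat.Sheaf AddCommGrpCat X)] :
    TopCat.Sheaf.IsFlasque ((LocCohZ.sectSuppF U).obj F : TopCat.Sheaf AddCommGrpCat X) where
  epi {W' V'} i := by
    rw [AddCommGrpCat.epi_iff_surjective]
    intro (s : ((LocCohZ.sectSuppF U).obj F).obj.obj (op V'.unop))
    let x := suppSec U F V'.unop s
    let Us : ULift.{u} Bool → Opens X := fun b => cond b.down V'.unop U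
    let sf : ∀ b : ULift.{u} Bool, F.obj.obj (op (Us b)) := fun
      | ⟨true⟩ => x.1
      | ⟨false⟩ => 0
    have hc : TopCat.Presheaf.IsCompatible F.obj Us sf := by
      rintro ⟨_ | _⟩ ⟨_ | _⟩
      · rfl
      · exact (map_zero _).trans ((ConcreteCategory.congr_hom (congrArg F.obj.map (Subsingleton.elim _ _)) x.1).trans x.2).symm
      · refine Eq.trans ?_ (map_zero _).symm
        refine Eq.trans ?_ ((congrArg (F.obj.map (homOfLE (le_of_eq (inf_comm V'.unop U))).op) x.2).trans (map_zero _))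
        exact (res_res F.obj _ _ _ x.1).symm
      · rfl
    obtain ⟨y, hy, -⟩ := TopCat.Sheaf.existsUnique_gluing (X := X) F Us sf hc
    obtain ⟨z, hz⟩ := exists_res_top_eq F y
    have hU : F.obj.map (homOfLE (le_top : U ≤ ⊤)).op z = 0 := by
      refine Eq.trans ?_ (hy ⟨false⟩)
      rw [← hz]
      exact (res_res F.obj _ _ _ z).symm
    have hw : F.obj.map (homOfLE (inf_le_right : U ⊓ W'.unop ≤ W'.unop)).op
        (F.obj.map (homOfLE (le_top : W'.unop ≤ ⊤)).op z) = 0 := by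
      refine Eq.trans ?_ ((congrArg (F.obj.map (homOfLE (inf_le_left : U ⊓ W'.unop ≤ U)).op) hU).trans (map_zero _))
      exact (res_res F.obj _ _ (homOfLE (le_top : U ⊓ W'.unop ≤ ⊤)).op z).trans (res_res F.obj _ _ _ z).symm
    obtain ⟨w, hw'⟩ := (suppSec_bijective U F W'.unop).2 ⟨_, hw⟩
    refine ⟨w, (suppSec_bijective U F V'.unop).1 (Subtype.ext ?_)⟩
    refine (NatTrans.naturality_apply ((suppι U).app F).hom i w).trans ?_
    refine (congrArg (F.obj.map i) (congrArg Subtype.val hw')).trans ?_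
    refine Eq.trans (res_res F.obj _ _ (homOfLE (le_top : V'.unop ≤ ⊤)).op z) ?_
    refine Eq.trans ?_ (hy ⟨true⟩)
    rw [← hz]
    exact (res_res F.obj _ _ _ z).symm

/-- A sheaf without `H¹` with supports is flasque. -/
theorem isFlasque_of_subsingleton_HZc_one (h : ∀ U : Opens X, Subsingleton (LocCohZ.HZc F 1 U)) :
    TopCat.Sheaf.IsFlasque (F : TopCat.Sheaf AddCommGrpCat X) where
  epi {W' V'} i := by
    rw [AddCommGrpCat.epi_iff_surjective]
    intro (s : F.obj.obj (op V'.unop))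
    haveI := h V'.unop
    obtain ⟨y, hy⟩ : ∃ y : CohTop.HU F 0 ⊤,
        CohTop.res F 0 (le_top : V'.unop ≤ ⊤) y = QCohLib.h0.symm s :=
      Ext.contravariant_sequence_exact₁ (LocCohZ.zqSeq_shortExact (le_top : V'.unop ≤ ⊤)) F
        (show QCohLib.HU F 0 V'.unop from QCohLib.h0.symm s) (n₁ := 1) rfl (@Subsingleton.elim _ (h V'.unop) _ _)
    refine ⟨F.obj.map (homOfLE (le_top : W'.unop ≤ ⊤)).op (QCohLib.h0 (show QCohLib.HU F 0 ⊤ from y)), ?_⟩
    refine (res_res F.obj _ _ (homOfLE (le_top : V'.unop ≤ ⊤)).op _).trans ?_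
    refine (QCohLib.h0_res (homOfLE (le_top : V'.unop ≤ ⊤)) (show QCohLib.HU F 0 ⊤ from y)).symm.trans ?_
    exact (congrArg QCohLib.h0 hy).trans (AddEquiv.apply_symm_apply _ s)

end LocSuppLib
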