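import Groth.Agent.LocSuppLib.DepthStalk
import Groth.Agent.LocSuppLib.Misc
import Groth.Agent.KFlatLib.FPFlatFree
import Groth.Agent.KFlatLib.StalkPull
import Groth.Agent.QCohLib.FTCrit
import Groth.Agent.DevissLib.ClosedImm
import Groth.Agent.InvLib.Depth

/-! # Depth of finite locally free modules -/

universe u

set_option linter.style.haveILetI false

open CategoryTheory CategoryTheory.Limits AlgebraicGeometry TopologicalSpace Opposite
open scoped TensorProduct

namespace LocSuppLib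

open QCohLib DevissLib RingTheory.Sequence

variable {X : Scheme.{u}} {E : X.Modules}

/-- `freeMod (n+1) ≅ O ⊞ freeMod n`. -/
noncomputable def freeModSucc (X : Scheme.{u}) (n : ℕ) :
    FlatMod.freeMod X (n + 1) ≅ Coh.structureModule X ⊞ FlatMod.freeMod X n where
  hom := Sigma.desc fun i => Fin.cases (motive := fun _ => Coh.structureModule X ⟶
      Coh.structureModule X ⊞ FlatMod.freeMod X n) biprod.inl
    (fun j => Sigma.ι (fun _ : Fin n => Coh.structureModule X) j ≫ biprod.inr) i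
  inv := biprod.desc (Sigma.ι (fun _ : Fin (n + 1) => Coh.structureModule X) 0)
    (Sigma.desc fun j => Sigma.ι (fun _ : Fin (n + 1) => Coh.structureModule X) j.succ)
  hom_inv_id := Sigma.hom_ext _ _ fun i => by
    refine Fin.cases ?_ (fun j => ?_) i
    · rw [Sigma.ι_desc_assoc, Fin.cases_zero, biprod.inl_desc, Category.comp_id]
    · rw [Sigma.ι_desc_assoc, Fin.cases_succ, Category.assoc, biprod.inr_desc, Sigma.ι_desc,
        Category.comp_id]
  inv_hom_id := by
    apply biprod.hom_ext'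
    · rw [biprod.inl_desc_assoc, Sigma.ι_desc, Fin.cases_zero, Category.comp_id]
    · refine Sigma.hom_ext _ _ fun j => ?_
      rw [biprod.inr_desc_assoc, Sigma.ι_desc_assoc, Sigma.ι_desc, Fin.cases_succ, Category.comp_id]

theorem isFT_freeMod (X : Scheme.{u}) (n : ℕ) : CohB1.IsFT (FlatMod.freeMod X n) := by
  induction n with
  | zero =>
    refine QCohLib.isFT_of_isZero ?_
    rw [IsZero.iff_id_eq_zero]
    exact Sigma.hom_ext _ _ fun i => i.elim0
  | succ n ih =>
    exact QCohLib.isFT_of_iso (freeModSucc X n).symm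
      (QCohLib.isFT_biprod (DevissLib.isCoh_structureModule X).2 ih)

theorem isQCoh_freeMod (X : Scheme.{u}) (n : ℕ) : Coh.IsQCoh (FlatMod.freeMod X n) := by
  induction n with
  | zero =>
    refine QCohLib.isQCoh_of_isZero ?_
    rw [IsZero.iff_id_eq_zero]
    exact Sigma.hom_ext _ _ fun i => i.elim0
  | succ n ih =>
    haveI := ih
    haveI := QCohLib.isQCoh_unit (X := X)
    haveI : Coh.IsQCoh (Coh.structureModule X ⊞ FlatMod.freeMod X n) := QCohLib.isQCoh_biprod _ _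
    exact QCohLib.isQCoh_of_iso (freeModSucc X n).symm



theorem isCoh_of_isFinLocFree (hE : FlatMod.IsFinLocFree E) : Coh.IsCoh E := by
  choose U n hU e using hE
  have hc : ⨆ x, U x = ⊤ := eq_top_iff.mpr fun x _ => Opens.mem_iSup.mpr ⟨x, hU x⟩
  refine ⟨QCohLib.isQCoh_of_cover E U hc fun x => ?_,
    QCohLib.isFT_of_cover E U hc fun x => QCohLib.isFT_of_iso (e x).some.symm (isFT_freeMod _ _)⟩
  haveI := isQCoh_freeMod (U x : Scheme.{u}) (n x)
  exact QCohLib.isQCoh_of_iso (e x).some.symm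

theorem nonempty_stalk_pi (hE : FlatMod.IsFinLocFree E) (x : X) :
    ∃ n : ℕ, Nonempty ((St x).obj E ≃ₗ[X.presheaf.stalk x] (Fin n → X.presheaf.stalk x)) := by
  obtain ⟨U, n, hU, ⟨e⟩⟩ := hE x
  obtain ⟨p, rfl⟩ : ∃ p : (U : Scheme.{u}), U.ι p = x := ⟨⟨x, hU⟩, rfl⟩
  refine ⟨n, ?_⟩
  let R := X.presheaf.stalk (U.ι p)
  let R' := (U : Scheme.{u}).presheaf.stalk p
  letI : Algebra R R' := (U.ι.stalkMap p).hom.toAlgebra
  let φ : R ≃ₗ[R] R' := LinearEquiv.ofBijective (Algebra.linearMap R R')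
    (ConcreteCategory.bijective_of_isIso (U.ι.stalkMap p))
  let N := (St (U.ι p)).obj E
  let e1 := ((DerSch.stalkFunctor (U : Scheme.{u}) p).mapIso
      ((Scheme.Modules.restrictFunctorIsoPullback U.ι).app E).symm ≪≫
    (DerSch.stalkFunctor (U : Scheme.{u}) p).mapIso e ≪≫ KFlatLib.stalkFreeModIso _ p n).toLinearEquiv
  let e2 : (R' ⊗[R] N) ≃ₗ[R'] (Fin n → R') :=
    (((KFlatLib.stalkPullIso U.ι p).app E).toLinearEquiv.symm).trans e1
  exact ⟨(TensorProduct.lid R N).symm ≪≫ₗ TensorProduct.congr φ (LinearEquiv.refl R N) ≪≫ₗ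
    e2.restrictScalars R ≪≫ₗ LinearEquiv.piCongrRight fun _ => φ.symm⟩

theorem le_depth_stalk (hE : FlatMod.IsFinLocFree E) (x : X) {d : ℕ}
    (h : (d : ℕ∞) ≤ LocCoh.depth (X.presheaf.stalk x) (X.presheaf.stalk x)) :
    (d : ℕ∞) ≤ LocCoh.depth (X.presheaf.stalk x) (E.presheaf.stalk x) := by
  obtain ⟨n, ⟨e⟩⟩ := nonempty_stalk_pi hE x
  obtain ⟨rs, hl, hm, hr⟩ := InvLib.hasSeq_of_le_depth h
  refine InvLib.HasSeq.le_depth ⟨rs, hl, hm, ?_⟩
  exact ((e ≪≫ₗ (TensorProduct.rid (X.presheaf.stalk x) (Fin n → X.presheaf.stalk x)).symm).isWeaklyRegular_congr rs).2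
    hr.isWeaklyRegular_lTensor

theorem nonempty_sections_HZsh_addEquiv_HZM [IsLocallyNoetherian X] (U : X.Opens) (d : ℕ)
    (hd : ∀ x : X, x ∉ (U : Set X) → (d : ℕ∞) ≤ LocCoh.depth (X.presheaf.stalk x) (X.presheaf.stalk x))
    (hE : FlatMod.IsFinLocFree E) :
    Nonempty (((LocCohZ.HZsh (X := X.carrier) U d).obj (Coh.toAb E)).obj.obj (op ⊤) ≃+ LocCohZ.HZM X E d U) :=
  nonempty_sections_HZsh_addEquiv (X := X.carrier) U (Coh.toAb E) d
    ((isZero_HZsh_below_iff U (isCoh_of_isFinLocFree hE) d).2 fun x hx => le_depth_stalk hE x (hd x hx))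

end LocSuppLib
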