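import Mathlib.CategoryTheory.Abelian.RightDerived
import Mathlib.Algebra.Homology.HomologySequence
import Mathlib.Algebra.Homology.HomologySequenceLemmas
import Mathlib.Algebra.Homology.HomologicalComplexAbelian
import Mathlib.CategoryTheory.Preadditive.Injective.Preserves
import Mathlib.CategoryTheory.Abelian.FunctorCategory

/-!
# Degree shift for right derived functors of a kernel of natural transformations
-/

universe v v' v'' u u' u''

open CategoryTheory CategoryTheory.Limits

set_option linter.style.haveILetI false

namespace LocSuppLib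

section Comp

variable {C : Type u} [Category.{v} C] [Abelian C] [HasInjectiveResolutions C]
  {D : Type u'} [Category.{v'} D] [Abelian D] [HasInjectiveResolutions D]
  {E : Type u''} [Category.{v''} E] [Abelian E]
  (G : C ⥤ D) [G.Additive] [G.PreservesHomology] [G.PreservesInjectiveObjects]

/-- Image of an injective resolution by an exact functor preserving injectives. -/
noncomputable def mapRes {X : C} (R : InjectiveResolution X) : InjectiveResolution (G.obj X) where
  cocomplex := (G.mapHomologicalComplex _).obj R.cocomplex
  injective n := G.injective_obj_of_injective (R.injective n)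
  ι := ((HomologicalComplex.singleMapHomologicalComplex G _ 0).app _).inv ≫
    (G.mapHomologicalComplex _).map R.ι
  quasiIso := inferInstance

variable (S : D ⥤ E) [S.Additive]

/-- Right derived functors of a composition with an exact functor preserving injectives. -/
noncomputable def compIso (n : ℕ) : (G ⋙ S).rightDerived n ≅ G ⋙ S.rightDerived n :=
  NatIso.ofComponents
    (fun X => (injectiveResolution X).isoRightDerivedObj (G ⋙ S) n ≪≫
      ((mapRes G (injectiveResolution X)).isoRightDerivedObj S n).symm)
    (fun {X Y} f => by
      have hφ := InjectiveResolution.desc_commutes_zero f (injectiveResolution Y) (injectiveResolution X)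
      set φ := InjectiveResolution.desc f (injectiveResolution Y) (injectiveResolution X)
      refine ((Category.assoc _ _ _).symm.trans ((congrArg (· ≫ ((mapRes G (injectiveResolution Y)).isoRightDerivedObj S n).inv)
        (InjectiveResolution.isoRightDerivedObj_hom_naturality f _ _ φ hφ (G ⋙ S) n)).trans
          ((Category.assoc _ _ _).trans ((congrArg (((injectiveResolution X).isoRightDerivedObj (G ⋙ S) n).hom ≫ ·) ?_).trans
            (Category.assoc _ _ _).symm))))
      refine (InjectiveResolution.isoRightDerivedObj_inv_naturality (G.map f) (mapRes G (injectiveResolution X))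
        (mapRes G (injectiveResolution Y)) ((G.mapHomologicalComplex _).map φ) ?_ S n).symm
      have e : (mapRes G (injectiveResolution X)).ι ≫ (G.mapHomologicalComplex _).map φ =
          (CochainComplex.single₀ D).map (G.map f) ≫ (mapRes G (injectiveResolution Y)).ι := by
        have e0 := InjectiveResolution.desc_commutes f (injectiveResolution Y) (injectiveResolution X)
        dsimp only [mapRes]
        rw [Category.assoc, ← Functor.map_comp, e0, Functor.map_comp]
        exact (reassoc_of% ((HomologicalComplex.singleMapHomologicalComplex G (ComplexShape.up ℕ) 0).inv.naturality f))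
          _ |>.symm
      refine (HomologicalComplex.congr_hom e 0).trans ?_
      rw [HomologicalComplex.comp_f, CochainComplex.single₀_map_f_zero]
      rfl)

end Comp

section Shift

lemma rel_succ (n : ℕ) : (ComplexShape.up ℕ).Rel n (n + 1) := rfl

variable {C : Type u} [Category.{v} C] [Abelian C] [HasInjectiveResolutions C]

omit [HasInjectiveResolutions C] in
lemma isZero_homology_id {F : C} (R : InjectiveResolution F) (n : ℕ) (hn : 1 ≤ n) :
    IsZero ((((𝟭 C).mapHomologicalComplex (ComplexShape.up ℕ)).obj R.cocomplex).homology n) := by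
  obtain ⟨m, rfl⟩ := Nat.exists_eq_add_of_le hn
  rw [add_comm, ← HomologicalComplex.exactAt_iff_isZero_homology]
  exact R.cocomplex_exactAt_succ m

lemma toRightDerivedZero_natTrans (S P : C ⥤ C) [S.Additive] [P.Additive] (η : S ⟶ P) (X : C) :
    η.app X ≫ P.toRightDerivedZero.app X =
      S.toRightDerivedZero.app X ≫ (NatTrans.rightDerived η 0).app X := by
  let R := injectiveResolution X
  rw [R.toRightDerivedZero_eq, R.toRightDerivedZero_eq, R.rightDerived_app_eq η 0]
  simp only [Category.assoc]
  let M := (NatTrans.mapHomologicalComplex η (ComplexShape.up ℕ)).app R.cocomplex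
  have h1 : η.app X ≫ R.toRightDerivedZero' P = R.toRightDerivedZero' S ≫ HomologicalComplex.cyclesMap M 0 := by
    rw [← cancel_mono (HomologicalComplex.iCycles _ _)]
    simp only [Category.assoc, InjectiveResolution.toRightDerivedZero'_comp_iCycles,
      HomologicalComplex.cyclesMap_i, InjectiveResolution.toRightDerivedZero'_comp_iCycles_assoc]
    exact (η.naturality (R.ι.f 0)).symm
  rw [reassoc_of% h1]
  congr 1
  refine ((reassoc_of% (HomologicalComplex.homologyπ_naturality M 0)) _).symm.trans ?_
  refine (congrArg (((S.mapHomologicalComplex (ComplexShape.up ℕ)).obj R.cocomplex).homologyπ 0 ≫ ·)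
    ((R.isoRightDerivedObj S 0).inv_hom_id_assoc _).symm).trans ?_
  rfl

variable {T P : C ⥤ C} [T.Additive] [P.Additive] (ι : T ⟶ 𝟭 C) (η : 𝟭 C ⟶ P) (w : ι ≫ η = 0)

/-- The sequence of complexes of an injective resolution. -/
noncomputable abbrev seq {F : C} (R : InjectiveResolution F) : ShortComplex (CochainComplex C ℕ) :=
  ShortComplex.mk ((NatTrans.mapHomologicalComplex ι _).app R.cocomplex)
    ((NatTrans.mapHomologicalComplex η _).app R.cocomplex) (by
      ext n
      exact congr_app w (R.cocomplex.X n))

variable (h : ∀ I : C, Injective I →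
  (ShortComplex.mk (ι.app I) (η.app I) (congr_app w I)).ShortExact)

include h in
omit [HasInjectiveResolutions C] in
lemma seq_shortExact {F : C} (R : InjectiveResolution F) : (seq ι η w R).ShortExact :=
  HomologicalComplex.shortExact_of_degreewise_shortExact _ fun n => h _ (R.injective n)

/-- The connecting transformation `Rⁿ P ⟶ Rⁿ⁺¹ T`. -/
noncomputable def shiftHom (n : ℕ) : P.rightDerived n ⟶ T.rightDerived (n + 1) where
  app F := ((injectiveResolution F).isoRightDerivedObj P n).hom ≫
    (seq_shortExact ι η w h (injectiveResolution F)).δ n (n + 1) (rel_succ n) ≫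
      ((injectiveResolution F).isoRightDerivedObj T (n + 1)).inv
  naturality {X Y} f := by
    have hφ := InjectiveResolution.desc_commutes_zero f (injectiveResolution Y) (injectiveResolution X)
    set φ := InjectiveResolution.desc f (injectiveResolution Y) (injectiveResolution X)
    let Φ : seq ι η w (injectiveResolution X) ⟶ seq ι η w (injectiveResolution Y) :=
      ShortComplex.homMk ((T.mapHomologicalComplex _).map φ) (((𝟭 C).mapHomologicalComplex _).map φ)
        ((P.mapHomologicalComplex _).map φ)
        ((NatTrans.mapHomologicalComplex ι _).naturality φ) ((NatTrans.mapHomologicalComplex η _).naturality φ)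
    have hδ := HomologicalComplex.HomologySequence.δ_naturality Φ (seq_shortExact ι η w h (injectiveResolution X))
      (seq_shortExact ι η w h (injectiveResolution Y)) n (n + 1) (rel_succ n)
    refine (Category.assoc _ _ _).symm.trans ((congrArg (· ≫ _)
      (InjectiveResolution.isoRightDerivedObj_hom_naturality f _ _ φ hφ P n)).trans
        ((Category.assoc _ _ _).trans (Eq.trans ?_ (Category.assoc _ _ _).symm)))
    refine congrArg (((injectiveResolution X).isoRightDerivedObj P n).hom ≫ ·) ?_
    refine Eq.trans ?_ (Category.assoc _ _ _).symm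
    refine Eq.trans ?_ (congrArg ((seq_shortExact ι η w h (injectiveResolution X)).δ n (n + 1) (rel_succ n) ≫ ·)
      (InjectiveResolution.isoRightDerivedObj_inv_naturality f _ _ φ hφ T (n + 1)).symm)
    exact (Category.assoc _ _ _).symm.trans
      ((congrArg (· ≫ ((injectiveResolution Y).isoRightDerivedObj T (n + 1)).inv) hδ.symm).trans (Category.assoc _ _ _))

lemma isIso_shiftHom (n : ℕ) (hn : 1 ≤ n) : IsIso (shiftHom ι η w h n) := by
  haveI : ∀ F, IsIso ((shiftHom ι η w h n).app F) := fun F => by
    haveI := (seq_shortExact ι η w h (injectiveResolution F)).isIso_δ n (n + 1) (rel_succ n)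
      (isZero_homology_id (injectiveResolution F) n hn)
      (isZero_homology_id (injectiveResolution F) (n + 1) (by omega))
    exact IsIso.comp_isIso' inferInstance (IsIso.comp_isIso'
      (show IsIso ((seq_shortExact ι η w h (injectiveResolution F)).δ n (n + 1) (rel_succ n)) from inferInstance)
      (((injectiveResolution F).isoRightDerivedObj T (n + 1)).isIso_inv))
  exact NatIso.isIso_of_isIso_app _

/-- `Rⁿ⁺¹ T ≅ Rⁿ P` for `n ≥ 1`. -/
noncomputable def shiftIso (n : ℕ) (hn : 1 ≤ n) : T.rightDerived (n + 1) ≅ P.rightDerived n :=
  haveI := isIso_shiftHom ι η w h n hn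
  (asIso (shiftHom ι η w h n)).symm

lemma rightDerived_zero_comp_shiftHom (F : C) :
    (NatTrans.rightDerived η 0).app F ≫ (shiftHom ι η w h 0).app F = 0 := by
  rw [(injectiveResolution F).rightDerived_app_eq η 0]
  simp only [shiftHom, Category.assoc, Iso.inv_hom_id_assoc]
  refine (congrArg (((injectiveResolution F).isoRightDerivedObj (𝟭 C) 0).hom ≫ ·)
    ((Category.assoc _ _ _).symm.trans ((congrArg (· ≫ _)
      ((seq_shortExact ι η w h (injectiveResolution F)).comp_δ 0 1 (rel_succ 0))).trans zero_comp))).trans comp_zero

lemma exact_zero (F : C) : (ShortComplex.mk _ _ (rightDerived_zero_comp_shiftHom ι η w h F)).Exact ∧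
    Epi ((shiftHom ι η w h 0).app F) := by
  have hS := seq_shortExact ι η w h (injectiveResolution F)
  refine ⟨ShortComplex.exact_of_iso ?_ (hS.homology_exact₃ 0 1 (rel_succ 0)), ?_⟩
  · refine (ShortComplex.isoMk ((injectiveResolution F).isoRightDerivedObj (𝟭 C) 0)
      ((injectiveResolution F).isoRightDerivedObj P 0)
      ((injectiveResolution F).isoRightDerivedObj T 1) ?_ ?_).symm
    · refine Eq.symm ((congrArg (· ≫ ((injectiveResolution F).isoRightDerivedObj P 0).hom)
        ((injectiveResolution F).rightDerived_app_eq η 0)).trans ?_)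
      exact (Category.assoc _ _ _).trans (congrArg (_ ≫ ·) ((Category.assoc _ _ _).trans
        ((congrArg (_ ≫ ·) ((injectiveResolution F).isoRightDerivedObj P 0).inv_hom_id).trans (Category.comp_id _))))
    · exact Eq.symm ((Category.assoc _ _ _).trans (congrArg (_ ≫ ·) ((Category.assoc _ _ _).trans
        ((congrArg (_ ≫ ·) ((injectiveResolution F).isoRightDerivedObj T 1).inv_hom_id).trans (Category.comp_id _)))))
  · haveI : Epi (hS.δ 0 1 (rel_succ 0)) := hS.epi_δ 0 1 (rel_succ 0) (isZero_homology_id (injectiveResolution F) 1 le_rfl)
    exact @epi_comp _ _ _ _ _ _ inferInstance _ (@epi_comp _ _ _ _ _ (hS.δ 0 1 (rel_succ 0)) inferInstance _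
      (@IsIso.epi_of_iso _ _ _ _ _ ((injectiveResolution F).isoRightDerivedObj T 1).isIso_inv))

/-- `R¹ T ≅ coker η` for left exact `P`. -/
theorem nonempty_firstIso [PreservesFiniteLimits P] (h' : ∀ I : C, Injective I →
    (ShortComplex.mk (ι.app I) (η.app I) (congr_app w I)).ShortExact) :
    Nonempty (T.rightDerived 1 ≅ cokernel η) := by
  let ψ : P ⟶ T.rightDerived 1 := P.toRightDerivedZero ≫ shiftHom ι η w h' 0
  have hψ0 : η ≫ ψ = 0 := by
    ext F
    simp only [ψ, NatTrans.comp_app, reassoc_of% (toRightDerivedZero_natTrans (𝟭 C) P η F)]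
    simp [rightDerived_zero_comp_shiftHom]
  have hex : (ShortComplex.mk η ψ hψ0).Exact ∧ Epi ψ := by
    haveI : ∀ F, Epi (ψ.app F) := fun F => by
      haveI := (exact_zero ι η w h' F).2
      simp only [ψ, NatTrans.comp_app]
      infer_instance
    refine ⟨?_, NatTrans.epi_of_epi_app _⟩
    rw [ShortComplex.exact_iff_isZero_homology]
    refine Functor.isZero _ fun F => ?_
    let S := ShortComplex.mk η ψ hψ0
    have hS : (S.map ((evaluation C C).obj F)).Exact :=
      ShortComplex.exact_of_iso (ShortComplex.isoMk (S₁ := S.map ((evaluation C C).obj F))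
        (S₂ := ShortComplex.mk _ _ (rightDerived_zero_comp_shiftHom ι η w h' F))
        ((Functor.rightDerivedZeroIsoSelf (𝟭 C)).app F).symm (P.rightDerivedZeroIsoSelf.app F).symm (Iso.refl _)
        (toRightDerivedZero_natTrans (𝟭 C) P η F).symm (Category.comp_id _).symm).symm (exact_zero ι η w h' F).1
    exact ((ShortComplex.exact_iff_isZero_homology _).1 hS).of_iso
      (S.mapHomologyIso ((evaluation C C).obj F)).symm
  haveI := hex.2
  exact ⟨(hex.1.gIsCokernel.coconePointUniqueUpToIso (colimit.isColimit (parallelPair η 0)))⟩

end Shift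

end LocSuppLib
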