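import Groth.Agent.LocSuppLib.DepthStalk

/-! # Depth two and restriction of sections -/

universe u

set_option linter.style.haveILetI false
set_option linter.unusedSectionVars false

open CategoryTheory CategoryTheory.Limits Opposite TopologicalSpace AlgebraicGeometry CategoryTheory.Abelian

namespace LocSuppLib

/-- Vanishing in degrees `< 2` gives bijective restriction. -/
theorem bijective_res_of_subsingleton {X : TopCat.{u}} (F : CohTop.Ab X) {W V : Opens X} (h : W ≤ V)
    (h0 : Subsingleton (LocCohZ.HZ F 0 h)) (h1 : Subsingleton (LocCohZ.HZ F 1 h)) :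
    Function.Bijective (F.obj.map (homOfLE h).op) := by
  refine ⟨(injective_iff_map_eq_zero _).mpr fun s hs => ?_, fun t => ?_⟩
  · haveI := (LocCohZ.sect0Equiv F h).symm.toEquiv.subsingleton
    exact congrArg Subtype.val (Subsingleton.elim (⟨s, hs⟩ : LocCohZ.sectZ F h) 0)
  · obtain ⟨y, hy⟩ := Ext.contravariant_sequence_exact₁ (LocCohZ.zqSeq_shortExact h) F
      ((QCohLib.h0 (F := F) (U := W)).symm t) (n₁ := 1) (by omega) (@Subsingleton.elim _ h1 _ _)
    exact ⟨QCohLib.h0 y, (QCohLib.h0_res (F := F) (homOfLE h) y).symm.trans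
      ((congrArg QCohLib.h0 hy).trans (AddEquiv.apply_symm_apply _ t))⟩

/-- Bijective restriction kills degrees `< 2` when `H¹` of the open vanishes. -/
theorem subsingleton_HZ_of_bijective {X : TopCat.{u}} (F : CohTop.Ab X) {W V : Opens X} (h : W ≤ V)
    (hb : Function.Bijective (F.obj.map (homOfLE h).op)) (hV : Subsingleton (QCohLib.HU F 1 V)) :
    ∀ i < 2, Subsingleton (LocCohZ.HZ F i h) := by
  intro i hi
  match i with
  | 0 =>
    have : Subsingleton (LocCohZ.sectZ F h) :=
      subsingleton_of_forall_eq 0 fun s => Subtype.ext (hb.1 (s.2.trans (map_zero _).symm))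
    exact (LocCohZ.sect0Equiv F h).toEquiv.subsingleton
  | 1 =>
    refine subsingleton_of_forall_eq 0 fun x => ?_
    obtain ⟨y, rfl⟩ := Ext.contravariant_sequence_exact₃ (LocCohZ.zqSeq_shortExact h) F x
      (Subsingleton.elim (α := QCohLib.HU F 1 V) _ _) (n₀ := 0) (by omega)
    obtain ⟨s, hs⟩ := hb.2 (QCohLib.h0 (F := F) (U := W) y)
    obtain ⟨z, rfl⟩ := (QCohLib.h0 (F := F) (U := V)).surjective s
    obtain rfl : y = QCohLib.res (homOfLE h) z :=
      QCohLib.h0.injective (hs.symm.trans (QCohLib.h0_res _ z).symm)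
    exact (LocCohZ.zqSeq_shortExact h).extClass_comp_assoc z (h := by omega)

variable {X : Scheme.{u}} [IsLocallyNoetherian X] (U : X.Opens) {M : X.Modules} (hM : Coh.IsCoh M)

include hM in
theorem depth_two_iff_bijective :
    (∀ x : X, x ∉ (U : Set X) → (2 : ℕ∞) ≤ LocCoh.depth (X.presheaf.stalk x) (M.presheaf.stalk x)) ↔
      ∀ V : X.Opens, Function.Bijective (M.presheaf.map (homOfLE (inf_le_left : V ⊓ U ≤ V)).op) := by
  haveI := hM.1
  have hcomm : ∀ V : X.Opens, Function.Bijective (M.presheaf.map (homOfLE (inf_le_left : V ⊓ U ≤ V)).op) ↔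
      Function.Bijective (M.presheaf.map (homOfLE (inf_le_right : U ⊓ V ≤ V)).op) := fun V => by
    haveI : IsIso (homOfLE (le_of_eq (inf_comm U V))) :=
      ⟨homOfLE (le_of_eq (inf_comm V U)), Subsingleton.elim _ _, Subsingleton.elim _ _⟩
    rw [show (homOfLE (inf_le_right : U ⊓ V ≤ V)).op =
      (homOfLE (inf_le_left : V ⊓ U ≤ V)).op ≫ (homOfLE (le_of_eq (inf_comm U V))).op from Subsingleton.elim _ _,
      Functor.map_comp]
    exact (Function.Bijective.of_comp_iff' (ConcreteCategory.bijective_of_isIso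
      (M.presheaf.map (homOfLE (le_of_eq (inf_comm U V))).op)) _).symm
  rw [forall_congr' hcomm]
  constructor
  · intro h V
    have h0 := (isZero_HZsh_below_iff U hM 2).mpr (fun x hx => by exact_mod_cast h x hx)
    exact bijective_res_of_subsingleton (X := X.carrier) (Coh.toAb M) (inf_le_right : U ⊓ V ≤ V)
      (subsingleton_HZ_of_isZero (X := X.carrier) U (Coh.toAb M) 2 h0 0 (by omega) V)
      (subsingleton_HZ_of_isZero (X := X.carrier) U (Coh.toAb M) 2 h0 1 (by omega) V)
  · intro h x hx
    obtain ⟨V, hV, hxV⟩ := QCohLib.exists_affine_nhd x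
    exact_mod_cast (subsingleton_HZ_iff_depth U hM hV 2).mp
      (subsingleton_HZ_of_bijective (X := X.carrier) (Coh.toAb M) (inf_le_right : U ⊓ V ≤ V) (h V)
        (QCohLib.subsingleton_HU_affine M 0 hV)) x hxV hx

end LocSuppLib
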