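import Groth.Agent.KoszLib.AffineDepth
import Groth.Agent.LocSuppLib.ClosedPre
import Groth.Agent.FlatLib.QStalk
import Groth.Agent.AssPointLib.Basic
import Groth.Agent.KFlatLib.QCohPull
import Groth.Agent.QCohLib.QCoh

/-! # Vanishing of local cohomology sheaves and depth of stalks -/

universe u

set_option linter.style.haveILetI false
set_option linter.unusedSectionVars false

open CategoryTheory CategoryTheory.Limits Opposite TopologicalSpace AlgebraicGeometry CommAlgDim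

namespace LocSuppLib

/-- Transport of regular sequences along a semilinear bijection. -/
theorem hasSeqIn_congr {A B : Type u} [CommRing A] [CommRing B] (σ : A ≃+* B) {M N : Type u} [AddCommGroup M]
    [Module A M] [AddCommGroup N] [Module B N] (e : M ≃+ N) (he : ∀ (a : A) x, e (a • x) = σ a • e x)
    (I : Ideal A) (J : Ideal B) (hIJ : ∀ a, a ∈ I ↔ σ a ∈ J) (n : ℕ) : HasSeqIn I M n ↔ HasSeqIn J N n := by
  constructor
  · rintro ⟨rs, hl, hm, hr⟩
    refine ⟨rs.map σ, by simpa using hl, fun b hb => ?_, ?_⟩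
    · obtain ⟨a, ha, rfl⟩ := List.mem_map.mp hb
      exact (hIJ a).mp (hm a ha)
    · exact (e.isWeaklyRegular_congr (List.forall₂_map_right_iff.mpr (List.forall₂_same.mpr fun a _ x => he a x))).mp hr
  · rintro ⟨rs, hl, hm, hr⟩
    refine ⟨rs.map σ.symm, by simpa using hl, fun a ha => ?_, ?_⟩
    · obtain ⟨b, hb, rfl⟩ := List.mem_map.mp ha
      exact (hIJ _).mpr (by rw [RingEquiv.apply_symm_apply]; exact hm b hb)
    · refine (e.isWeaklyRegular_congr (bs := rs) (List.forall₂_map_left_iff.mpr (List.forall₂_same.mpr fun b _ x => ?_))).mpr hr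
      rw [he, RingEquiv.apply_symm_apply]

/-- Depth over a localisation. -/
theorem le_depth_iff_localization {A S : Type u} [CommRing A] [IsNoetherianRing A] [CommRing S] [IsLocalRing S] [Algebra A S]
    (p : Ideal A) [p.IsPrime] [IsLocalization.AtPrime S p] {M N : Type u} [AddCommGroup M] [Module A M]
    [Module.Finite A M] [AddCommGroup N] [Module S N] [Module A N] [IsScalarTower A S N] (g : M →ₗ[A] N)
    [IsLocalizedModule p.primeCompl g] (n : ℕ) :
    (n : ℕ∞) ≤ LocCoh.depth S N ↔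
      (n : ℕ∞) ≤ LocCoh.depth (Localization.AtPrime p) (LocalizedModule p.primeCompl M) := by
  haveI : IsNoetherianRing S := IsLocalization.isNoetherianRing p.primeCompl S ‹_›
  haveI : IsNoetherianRing (Localization.AtPrime p) := IsLocalization.isNoetherianRing p.primeCompl _ ‹_›
  haveI : Module.Finite S N := Module.Finite.of_isLocalizedModule p.primeCompl g
  haveI : Module.Finite (Localization.AtPrime p) (LocalizedModule p.primeCompl M) :=
    Module.Finite.of_isLocalizedModule p.primeCompl (LocalizedModule.mkLinearMap p.primeCompl M)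
  rw [le_depth_iff, le_depth_iff]
  let φ : Localization.AtPrime p ≃ₐ[A] S := IsLocalization.algEquiv p.primeCompl _ _
  let e := IsLocalizedModule.iso p.primeCompl g
  refine (hasSeqIn_congr φ.toRingEquiv e.toAddEquiv (fun a x => ?_) _ _ (fun a => ?_) n).symm
  · obtain ⟨⟨m, s⟩, hs⟩ := IsLocalization.surj (M := p.primeCompl) a
    have hu : IsUnit (algebraMap A S s) := IsLocalization.map_units S s
    change a * algebraMap A _ (s : A) = algebraMap A _ m at hs
    apply hu.smul_left_cancel.mp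
    change algebraMap A S s • e (a • x) = algebraMap A S s • (φ a • e x)
    have h1 : φ a * algebraMap A S s = algebraMap A S m := by
      have := congrArg φ hs
      rwa [map_mul, AlgEquiv.commutes, AlgEquiv.commutes] at this
    rw [smul_smul, mul_comm (algebraMap A S s), h1, algebraMap_smul, algebraMap_smul, ← map_smul, ← map_smul]
    refine congrArg e ?_
    rw [← algebraMap_smul (Localization.AtPrime p) (s : A) (a • x), smul_smul, mul_comm, hs, algebraMap_smul]
  · simp [IsLocalRing.mem_maximalIdeal, mem_nonunits_iff]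

variable {X : Scheme.{u}} [IsLocallyNoetherian X] (U : X.Opens) {M : X.Modules} (hM : Coh.IsCoh M)

include hM in
theorem hasSeqIn_iff_depth_stalk {W : X.Opens} (hW : IsAffineOpen W) (fs : List Γ(X, W))
    (hU : (⨆ a : Fin fs.length, X.basicOpen (fs.get a)) = U ⊓ W) (n : ℕ) :
    HasSeqIn (Ideal.span (Set.range fs.get)) Γ(M, W) n ↔
      ∀ x ∈ W, x ∉ U → (n : ℕ∞) ≤ LocCoh.depth (X.presheaf.stalk x) (M.presheaf.stalk x) := by
  haveI := hM.1
  haveI : IsNoetherianRing Γ(X, W) := IsLocallyNoetherian.component_noetherian ⟨W, hW⟩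
  haveI : Module.Finite Γ(X, W) Γ(M, W) := QCohLib.finite_of_isFT hM.2 hW
  have hstalk : ∀ (x : X) (hx : x ∈ W), ((n : ℕ∞) ≤ LocCoh.depth (X.presheaf.stalk x) (M.presheaf.stalk x) ↔
      (n : ℕ∞) ≤ LocCoh.depth (Localization.AtPrime (hW.primeIdealOf ⟨x, hx⟩).asIdeal)
        (LocalizedModule (hW.primeIdealOf ⟨x, hx⟩).asIdeal.primeCompl Γ(M, W))) := fun x hx => by
    letI := Module.compHom (M.presheaf.stalk x) (X.presheaf.germ W x hx).hom
    letI : Algebra Γ(X, W) (X.presheaf.stalk x) := (X.presheaf.germ W x hx).hom.toAlgebra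
    haveI : IsScalarTower Γ(X, W) (X.presheaf.stalk x) (M.presheaf.stalk x) :=
      IsScalarTower.of_algebraMap_smul fun _ _ ↦ rfl
    haveI : IsLocalization.AtPrime (X.presheaf.stalk x) (hW.primeIdealOf ⟨x, hx⟩).asIdeal :=
      hW.isLocalization_stalk ⟨x, hx⟩
    haveI := FlatLib.isLocalizedModule_germLin M hW hx
    exact le_depth_iff_localization _ (FlatLib.germLin M hx) n
  have hmem : ∀ (x : X) (hx : x ∈ W), x ∈ U ↔ ¬ Ideal.span (Set.range fs.get) ≤ (hW.primeIdealOf ⟨x, hx⟩).asIdeal := by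
    intro x hx
    rw [Ideal.span_le, Set.range_subset_iff, not_forall]
    constructor
    · intro hxU
      obtain ⟨a, ha⟩ := Opens.mem_iSup.mp (show x ∈ ⨆ a : Fin fs.length, X.basicOpen (fs.get a) from hU.symm ▸ (⟨hxU, hx⟩ : x ∈ U ⊓ W))
      exact ⟨a, (AssPointLib.mem_basicOpen_iff hW hx _).mp ha⟩
    · rintro ⟨a, ha⟩
      exact (hU.le (Opens.mem_iSup.mpr ⟨a, (AssPointLib.mem_basicOpen_iff hW hx _).mpr ha⟩)).1
  rw [hasSeqIn_iff_forall_localization]
  constructor
  · intro h x hx hxU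
    exact (hstalk x hx).mpr (h _ (not_not.mp fun h' => hxU ((hmem x hx).mpr h')))
  · intro h p _ hle
    let q : PrimeSpectrum Γ(X, W) := ⟨p, inferInstance⟩
    have hx : hW.fromSpec q ∈ W := by
      have : hW.fromSpec q ∈ (hW.fromSpec.opensRange : Set X) := ⟨q, rfl⟩
      rwa [hW.opensRange_fromSpec] at this
    have hq : hW.primeIdealOf ⟨hW.fromSpec q, hx⟩ = q :=
      hW.fromSpec.isOpenEmbedding.injective (hW.fromSpec_primeIdealOf ⟨_, hx⟩)
    have := (hstalk _ hx).mp (h _ hx fun hxU => (hmem _ hx).mp hxU (by rw [hq]; exact hle))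
    obtain ⟨y, hy⟩ : ∃ y, y = hW.primeIdealOf ⟨hW.fromSpec q, hx⟩ := ⟨_, rfl⟩
    rw [← hy] at this
    obtain rfl : y = q := hy.trans hq
    exact this

theorem exists_list_cover {W : X.Opens} (hW : IsAffineOpen W) :
    ∃ fs : List Γ(X, W), (⨆ a : Fin fs.length, X.basicOpen (fs.get a)) = U ⊓ W := by
  classical
  haveI : IsNoetherianRing Γ(X, W) := IsLocallyNoetherian.component_noetherian ⟨W, hW⟩
  haveI : NoetherianSpace W.1 := noetherianSpace_of_isAffineOpen W hW
  have hc : IsCompact ((U ⊓ W : X.Opens) : Set X) := by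
    have := NoetherianSpace.isCompact (α := W.1) (Subtype.val ⁻¹' (U : Set X))
    have h2 := this.image continuous_subtype_val
    rwa [Subtype.image_preimage_coe, Set.inter_comm] at h2
  have hcov : ((U ⊓ W : X.Opens) : Set X) ⊆ ⋃ f : {f : Γ(X, W) // X.basicOpen f ≤ U}, (X.basicOpen f.1 : Set X) := by
    intro x hx
    obtain ⟨f, hf, hxf⟩ := QCohLib.exists_basicOpen_nhd hW (V := U ⊓ W) hx hx.2
    exact Set.mem_iUnion.mpr ⟨⟨f, hf.trans inf_le_left⟩, hxf⟩
  obtain ⟨t, ht⟩ := hc.elim_finite_subcover (fun f : {f : Γ(X, W) // X.basicOpen f ≤ U} => (X.basicOpen f.1 : Set X)) (fun f => (X.basicOpen f.1).isOpen) hcov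
  refine ⟨t.toList.map Subtype.val, le_antisymm (iSup_le fun a => le_inf ?_ (X.basicOpen_le _)) fun x hx => ?_⟩
  · obtain ⟨f, -, hf⟩ := List.mem_map.mp (List.get_mem _ a)
    exact hf ▸ f.2
  · obtain ⟨f, hft, hxf⟩ := Set.mem_iUnion₂.mp (ht hx)
    obtain ⟨a, ha⟩ := List.mem_iff_get.mp (List.mem_map.mpr ⟨f, Finset.mem_toList.mpr hft, rfl⟩ :
      f.1 ∈ t.toList.map Subtype.val)
    exact Opens.mem_iSup.mpr ⟨a, ha ▸ hxf⟩

include hM in
/-- Vanishing of cohomology with supports over an affine open measures depth at its points outside `U`. -/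
theorem subsingleton_HZ_iff_depth {V : X.Opens} (hV : IsAffineOpen V) (n : ℕ) :
    (∀ i < n, Subsingleton (LocCohZ.HZ (X := X.carrier) (Coh.toAb M) i (inf_le_right : U ⊓ V ≤ V))) ↔
      ∀ x ∈ V, x ∉ U → (n : ℕ∞) ≤ LocCoh.depth (X.presheaf.stalk x) (M.presheaf.stalk x) := by
  haveI := hM.1
  haveI : IsAffine V.toScheme := hV
  have hV' : IsAffineOpen (V.ι ''ᵁ ⊤) := (isAffineOpen_top V.toScheme).image_of_isOpenImmersion V.ι
  have hVV : V.ι ''ᵁ ⊤ = V := by simp
  haveI : Coh.IsQCoh (M.restrict V.ι) :=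
    have := KFlatLib.isQCoh_pullback V.ι M
    QCohLib.isQCoh_of_iso ((Scheme.Modules.restrictFunctorIsoPullback V.ι).app M).symm
  haveI : IsNoetherianRing Γ(X, V.ι ''ᵁ ⊤) := IsLocallyNoetherian.component_noetherian ⟨_, hV'⟩
  haveI : IsNoetherianRing Γ(V.toScheme, ⊤) := ‹IsNoetherianRing Γ(X, V.ι ''ᵁ ⊤)›
  obtain ⟨fs, hfs⟩ := exists_list_cover U hV'
  let fs' : List Γ(V.toScheme, ⊤) := fs
  have hsm : ∀ (r : Γ(V.toScheme, ⊤)) (m : Γ(M.restrict V.ι, ⊤)),
      (r • m : Γ(M.restrict V.ι, ⊤)) = ((show Γ(X, V.ι ''ᵁ ⊤) from r) • (show Γ(M, V.ι ''ᵁ ⊤) from m)) := by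
    intro r m
    change ((V.ι.appIso ⊤).inv r : Γ(X, V.ι ''ᵁ ⊤)) • (show Γ(M, V.ι ''ᵁ ⊤) from m) = _
    rw [Scheme.Opens.ι_appIso]
    rfl
  haveI : Module.Finite Γ(V.toScheme, ⊤) Γ(M.restrict V.ι, ⊤) := by
    haveI := QCohLib.finite_of_isFT hM.2 hV'
    let τ : Γ(X, V.ι ''ᵁ ⊤) →+* Γ(V.toScheme, ⊤) := RingHom.id Γ(X, V.ι ''ᵁ ⊤)
    haveI : RingHomSurjective τ := ⟨fun x => ⟨x, rfl⟩⟩
    let L : Γ(M, V.ι ''ᵁ ⊤) →ₛₗ[τ] Γ(M.restrict V.ι, ⊤) :=
      { toFun := fun m => m, map_add' := fun _ _ => rfl, map_smul' := fun r m => (hsm r m).symm }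
    exact Module.Finite.of_surjective L (fun m => ⟨m, rfl⟩)
  have hin : (⨆ j, KoszLib.Uf fs'.get j) = SuppFam.inOpen (X := X.carrier) V U := by
    apply Opens.ext
    apply Set.image_injective.mpr Subtype.val_injective
    have h1 : ∀ a, V.ι ''ᵁ V.toScheme.basicOpen (fs'.get a) = X.basicOpen (fs.get a) := fun a => by
      rw [Scheme.image_basicOpen, Scheme.Opens.ι_appIso]
      rfl
    have h2 : V.ι ''ᵁ (⨆ j, KoszLib.Uf fs'.get j) = U ⊓ V := by
      rw [Scheme.Hom.image_iSup, ← congrArg (U ⊓ ·) hVV, ← hfs]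
      exact le_antisymm (iSup_le fun j => (h1 j.down).le.trans (le_iSup (fun a => X.basicOpen (fs.get a)) j.down))
        (iSup_le fun a => (h1 a).ge.trans (le_iSup (fun j => V.ι ''ᵁ KoszLib.Uf fs'.get j) ⟨a⟩))
    exact (congrArg (fun O : X.Opens => (O : Set X)) h2).trans
      (congrArg (fun O : X.Opens => (O : Set X)) (img_inOpen (X := X.carrier) U V).symm)
  have key : ∀ i, Subsingleton (LocCohZ.HZ (X := X.carrier) (Coh.toAb M) i (inf_le_right : U ⊓ V ≤ V)) ↔
      Subsingleton (LocCohZ.HZM V.toScheme (M.restrict V.ι) i (⨆ j, KoszLib.Uf fs'.get j)) := fun i => by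
    obtain ⟨e⟩ := nonempty_HZ_restr_equiv (X := X.carrier) U (Coh.toAb M) V i
    rw [e.toEquiv.subsingleton_congr, hin]
    exact Iff.rfl
  rw [forall_congr' fun i => imp_congr_right fun _ => key i, ← KoszLib.hasSeqIn_iff_HZM (M.restrict V.ι) fs' n,
    hasSeqIn_congr (show Γ(V.toScheme, ⊤) ≃+* Γ(X, V.ι ''ᵁ ⊤) from RingEquiv.refl Γ(X, V.ι ''ᵁ ⊤))
      (show Γ(M.restrict V.ι, ⊤) ≃+ Γ(M, V.ι ''ᵁ ⊤) from AddEquiv.refl Γ(M, V.ι ''ᵁ ⊤)) (fun r m => hsm r m)
      (Ideal.span (Set.range fs'.get)) (Ideal.span (Set.range fs.get)) (fun _ => Iff.rfl) n,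
    hasSeqIn_iff_depth_stalk U hM hV' fs hfs n, hVV]

include hM in
/-- `ℋ^i_Z(M) = 0` for `i < n` iff the depth is at least `n` along `Z`. -/
theorem isZero_HZsh_below_iff (n : ℕ) :
    (∀ i : ℕ, i < n → IsZero ((LocCohZ.HZsh (X := X.carrier) U i).obj (Coh.toAb M))) ↔
      ∀ x : X, x ∉ (U : Set X) → (n : ℕ∞) ≤ LocCoh.depth (X.presheaf.stalk x) (M.presheaf.stalk x) := by
  constructor
  · intro h x hx
    obtain ⟨V, hV, hxV⟩ := QCohLib.exists_affine_nhd x
    exact (subsingleton_HZ_iff_depth U hM hV n).mp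
      (fun i hi => subsingleton_HZ_of_isZero (X := X.carrier) U (Coh.toAb M) n h i hi V) x hxV hx
  · intro h i hi
    exact isZero_HZsh_of_subsingleton (X := X.carrier) U (Coh.toAb M) X.isBasis_affineOpens i
      fun V hV => (subsingleton_HZ_iff_depth U hM hV n).mpr (fun x _ hx => h x hx) i hi

end LocSuppLib
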