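import Groth.Agent.LocSuppLib.ClosedPre
import Groth.Agent.QCohLib.AbCoh
import Groth.Agent.CohLib.SuppPush

/-! # Vanishing of local cohomology sheaves and restriction maps -/

universe u

set_option linter.style.haveILetI false

open CategoryTheory CategoryTheory.Limits Opposite TopologicalSpace CategoryTheory.Abelian

namespace LocSuppLib

section General

variable {C : Type*} [Category C] [Abelian C] [HasExt.{u} C] {A B D : C}

lemma mk₀_comp_mk₀_comp_eq_zero {f : A ⟶ B} {g : B ⟶ D} (w : f ≫ g = 0) {Y : C} {i : ℕ} (α : Ext.{u} D Y i) :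
    (Ext.mk₀ f).comp ((Ext.mk₀ g).comp α (zero_add i)) (zero_add i) = 0 := by
  rw [Ext.mk₀_comp_mk₀_assoc, w, Ext.mk₀_zero, Ext.zero_comp]

lemma extClass_comp_mk₀_comp_eq_zero {S : ShortComplex C} (hS : S.ShortExact) {Y : C} {i : ℕ}
    (α : Ext.{u} S.X₂ Y i) :
    hS.extClass.comp ((Ext.mk₀ S.f).comp α (zero_add i)) (show 1 + i = i + 1 by omega) = 0 := by
  rw [← Ext.comp_assoc _ _ _ (add_zero 1) (zero_add i) (by omega), hS.extClass_comp, Ext.zero_comp]

lemma mk₀_comp_injective (g : B ⟶ D) [Epi g] {Y : C} :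
    Function.Injective fun α : Ext.{u} D Y 0 => (Ext.mk₀ g).comp α (zero_add 0) := by
  intro x y e
  obtain ⟨a, rfl⟩ := Ext.addEquiv₀.symm.surjective x
  obtain ⟨b, rfl⟩ := Ext.addEquiv₀.symm.surjective y
  change (Ext.mk₀ g).comp (Ext.mk₀ a) _ = (Ext.mk₀ g).comp (Ext.mk₀ b) _ at e
  rw [Ext.mk₀_comp_mk₀, Ext.mk₀_comp_mk₀] at e
  exact congrArg _ ((cancel_epi g).1 ((Ext.mk₀_bijective _ _).1 e))

end General

variable {X : TopCat.{u}} (F : CohTop.Ab X) (U : Opens X)

/-- `ℋ^i_Z(F)` is zero if classes of the presheaf `V ↦ H^i_{Z ∩ V}(V, F)` die locally. -/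
theorem isZero_HZsh_of_locally_zero (i : ℕ)
    (h : ∀ (V : Opens X) (s : LocCohZ.HZ F i (inf_le_right : U ⊓ V ≤ V)), ∀ x ∈ V, ∃ (W : Opens X) (hWV : W ≤ V),
      x ∈ W ∧ LocCohZ.resZ F i (inf_le_right : U ⊓ V ≤ V) (inf_le_right : U ⊓ W ≤ W) (inf_le_inf_left U hWV) hWV s = 0) :
    IsZero ((LocCohZ.HZsh U i).obj F) := by
  let J := Opens.grothendieckTopology X
  let R : InjectiveResolution F := injectiveResolution F
  let a := presheafToSheaf J AddCommGrpCat.{u}
  haveI : a.Additive := (sheafificationAdjunction J AddCommGrpCat.{u}).left_adjoint_additive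
  obtain ⟨e⟩ := nonempty_secHomology_iso U F R i
  let S := (((LocCohZ.sectSuppF U).mapHomologicalComplex _).obj R.cocomplex).sc i
  have e' : (LocCohZ.HZsh U i).obj F ≅ a.obj (extPre (zqFunC U) F i) :=
    R.isoRightDerivedObj (LocCohZ.sectSuppF U) i ≪≫
    (ShortComplex.homologyMapIso ((S.mapNatIso (asIso (sheafificationAdjunction J AddCommGrpCat.{u}).counit)) ≪≫
      Iso.refl _)).symm ≪≫
    (S.map (sheafToPresheaf J AddCommGrpCat.{u})).mapHomologyIso a ≪≫ a.mapIso e
  refine IsZero.of_iso ?_ e'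
  rw [IsZero.iff_id_eq_zero]
  apply ((sheafificationAdjunction J AddCommGrpCat.{u}).homEquiv _ _).injective
  ext V s
  apply TopCat.Presheaf.section_ext (show TopCat.Sheaf AddCommGrpCat X from a.obj (extPre (zqFunC U) F i)) V.unop
  intro x hx
  obtain ⟨W, hWV, hxW, hs⟩ := h V.unop s x hx
  rw [← TopCat.Presheaf.germ_res_apply _ (homOfLE hWV) x hxW,
    ← TopCat.Presheaf.germ_res_apply _ (homOfLE hWV) x hxW]
  refine congrArg _ ?_
  refine (NatTrans.naturality_apply _ (homOfLE hWV).op s).symm.trans ?_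
  refine Eq.trans ?_ (NatTrans.naturality_apply _ (homOfLE hWV).op s)
  have : (extPre (zqFunC U) F i).map (homOfLE hWV).op s = 0 := hs
  rw [this]
  exact (map_zero _).trans (map_zero _).symm

lemma subsingleton_HZ_congr {W W' V : Opens X} (e : W = W') (h : W ≤ V) (h' : W' ≤ V) (i : ℕ) :
    Subsingleton (LocCohZ.HZ F i h) ↔ Subsingleton (LocCohZ.HZ F i h') := by
  subst e; exact Iff.rfl

theorem isZero_HZsh_below_iff_opens (n : ℕ) :
    (∀ i : ℕ, i < n → IsZero ((LocCohZ.HZsh U i).obj F)) ↔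
      ∀ (V : Opens X) (i : ℕ), i < n → Subsingleton (LocCohZ.HZ F i (inf_le_left : V ⊓ U ≤ V)) :=
  ⟨fun h V i hi => (subsingleton_HZ_congr F (inf_comm U V) _ _ i).1 (subsingleton_HZ_of_isZero U F n h i hi V),
    fun h i hi => isZero_HZsh_of_subsingleton (B := Set.univ) U F (Opens.isBasis_iff_nbhd.2 fun {W x} hx => ⟨W, trivial, hx, le_rfl⟩) i fun V _ =>
      (subsingleton_HZ_congr F (inf_comm U V) _ _ i).2 (h V i hi)⟩

variable {F} {W V : Opens X}

lemma exists_delta_eq (h : W ≤ V) {i : ℕ} (x : LocCohZ.HZ F (i + 1) h) (hx : LocCohZ.toHU F (i + 1) h x = 0) :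
    ∃ y : CohTop.HU F i W, LocCohZ.delta F i h y = x :=
  Ext.contravariant_sequence_exact₃ (LocCohZ.zqSeq_shortExact h) F x hx (by omega)

lemma exists_toHU_eq (h : W ≤ V) {i : ℕ} (y : CohTop.HU F i V) (hy : CohTop.res F i h y = 0) :
    ∃ x : LocCohZ.HZ F i h, LocCohZ.toHU F i h x = y :=
  Ext.contravariant_sequence_exact₂ (LocCohZ.zqSeq_shortExact h) F y hy

lemma exists_res_eq (h : W ≤ V) {i : ℕ} (y : CohTop.HU F i W) (hy : LocCohZ.delta F i h y = 0) :
    ∃ x : CohTop.HU F i V, CohTop.res F i h x = y :=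
  Ext.contravariant_sequence_exact₁ (LocCohZ.zqSeq_shortExact h) F y (n₁ := i + 1) (by omega) hy

lemma res_toHU (h : W ≤ V) {i : ℕ} (x : LocCohZ.HZ F i h) : CohTop.res F i h (LocCohZ.toHU F i h x) = 0 :=
  mk₀_comp_mk₀_comp_eq_zero (cokernel.condition _) (α := x)

lemma delta_res (h : W ≤ V) {i : ℕ} (y : CohTop.HU F i V) : LocCohZ.delta F i h (CohTop.res F i h y) = 0 :=
  extClass_comp_mk₀_comp_eq_zero (C := CohTop.Ab X) (S := ShortComplex.mk (CohCx.freeSheafMap (Opens.grothendieckTopology X) (homOfLE h)) (cokernel.π _) (cokernel.condition _))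
    (LocCohZ.zqSeq_shortExact h) (Y := F) (i := i) y

lemma toHU_zero_injective (h : W ≤ V) : Function.Injective (LocCohZ.toHU F 0 h) :=
  mk₀_comp_injective (cokernel.π _)

/-- `H^i_{V∖W}` vanishes up to `N` iff restriction is bijective below `N` and injective in degree `N`. -/
theorem subsingleton_HZ_iff_res (h : W ≤ V) (N : ℕ) :
    (∀ i ≤ N, Subsingleton (LocCohZ.HZ F i h)) ↔
      (∀ i < N, Function.Bijective (CohTop.res F i h)) ∧ Function.Injective (CohTop.res F N h) := by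
  constructor
  · intro H
    have hinj : ∀ i ≤ N, Function.Injective (CohTop.res F i h) := fun i hi =>
      (injective_iff_map_eq_zero _).2 fun y hy => by
        obtain ⟨x, rfl⟩ := exists_toHU_eq h y hy
        haveI := H i hi
        rw [Subsingleton.elim x 0, map_zero]
    refine ⟨fun i hi => ⟨hinj i hi.le, fun y => ?_⟩, hinj N le_rfl⟩
    haveI := H (i + 1) hi
    exact exists_res_eq h y (Subsingleton.elim _ _)
  · rintro ⟨hb, hN⟩ i hi
    have hinj : Function.Injective (CohTop.res F i h) := by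
      rcases hi.lt_or_eq with h' | rfl
      exacts [(hb i h').1, hN]
    refine subsingleton_of_forall_eq 0 fun x => ?_
    have hx : LocCohZ.toHU F i h x = 0 := hinj (by rw [res_toHU, map_zero])
    cases i with
    | zero => exact toHU_zero_injective h (by rw [hx, map_zero])
    | succ i =>
      obtain ⟨y, rfl⟩ := exists_delta_eq h x hx
      obtain ⟨z, rfl⟩ := (hb i hi).2 y
      exact delta_res h z

theorem isZero_HZsh_iff_res (F : CohTop.Ab X) (U : Opens X) (N : ℕ) :
    (∀ i : ℕ, i ≤ N → IsZero ((LocCohZ.HZsh U i).obj F)) ↔ ∀ V : Opens X,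
      (∀ i : ℕ, i < N → Function.Bijective (CohTop.res F i (inf_le_left : V ⊓ U ≤ V))) ∧
        Function.Injective (CohTop.res F N (inf_le_left : V ⊓ U ≤ V)) := by
  constructor
  · intro h V
    exact (subsingleton_HZ_iff_res _ N).1 fun i hi =>
      (isZero_HZsh_below_iff_opens F U (N + 1)).1 (fun j hj => h j (by omega)) V i (by omega)
  · intro h i hi
    exact (isZero_HZsh_below_iff_opens F U (N + 1)).2 (fun V j hj =>
      (subsingleton_HZ_iff_res _ N).2 (h V) j (by omega)) i (by omega)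

lemma toHU_resZ (h : W ≤ V) {W' V' : Opens X} (h' : W' ≤ V') (hW : W' ≤ W) (hV : V' ≤ V) {i : ℕ}
    (x : LocCohZ.HZ F i h) :
    LocCohZ.toHU F i h' (LocCohZ.resZ F i h h' hW hV x) = CohTop.res F i hV (LocCohZ.toHU F i h x) := by
  change (Ext.mk₀ _).comp ((Ext.mk₀ (LocCohZ.zqMap h h' hW hV)).comp x (zero_add i)) (zero_add i) =
    (Ext.mk₀ (CohCx.freeSheafMap (Opens.grothendieckTopology X) (homOfLE hV))).comp ((Ext.mk₀ _).comp x (zero_add i)) (zero_add i)
  rw [Ext.mk₀_comp_mk₀_assoc, Ext.mk₀_comp_mk₀_assoc]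
  congr 2
  exact cokernel.π_desc _ _ _

theorem isZero_HZsh_of_res_bijective (F : CohTop.Ab X) (U : Opens X) (N : ℕ) (hN : 0 < N)
    (h : ∀ (V : Opens X) (i : ℕ), i < N → Function.Bijective (CohTop.res F i (inf_le_left : V ⊓ U ≤ V))) :
    ∀ i : ℕ, i ≤ N → IsZero ((LocCohZ.HZsh U i).obj F) := by
  obtain ⟨n, rfl⟩ := Nat.exists_eq_succ_of_ne_zero hN.ne'
  intro i hi
  rcases hi.lt_or_eq with hlt | rfl
  · exact (isZero_HZsh_iff_res F U n).2 (fun V => ⟨fun j hj => h V j (by omega), (h V n (by omega)).1⟩) i (by omega)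
  refine isZero_HZsh_of_locally_zero F U _ fun V s x hx => ?_
  obtain ⟨W, i, hxW, hW⟩ := QCohLib.exists_res_eq_zero n
    (show QCohLib.HU F (n + 1) V from LocCohZ.toHU F (n + 1) _ s) hx
  refine ⟨W, leOfHom i, hxW, ?_⟩
  obtain ⟨y, hy⟩ := exists_delta_eq (inf_le_right : U ⊓ W ≤ W)
    (LocCohZ.resZ F (n + 1) (inf_le_right : U ⊓ V ≤ V) inf_le_right (inf_le_inf_left U (leOfHom i)) (leOfHom i) s)
    ((toHU_resZ _ _ _ _ s).trans hW)
  rw [← hy]
  have hb : Function.Bijective (CohTop.res F n (inf_le_right : U ⊓ W ≤ W)) := by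
    have key : ∀ (A : Opens X) (hA : A ≤ W), A = W ⊓ U → Function.Bijective (CohTop.res F n hA) := by
      rintro A hA rfl
      exact h W n (by omega)
    exact key _ _ (inf_comm U W)
  obtain ⟨z, rfl⟩ := hb.2 y
  exact delta_res _ z

end LocSuppLib
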