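import Groth.Agent.LocSuppLib.General
import Groth.Agent.RpushLib.Sections
import Groth.Agent.RpushLib.Push
import Groth.Agent.KFlatLib.QCohPull
import Groth.Agent.QCohLib.Push
import Groth.Prelude.Def_LocCohZ

/-! # Local cohomology sheaves of quasi-coherent modules -/

set_option autoImplicit false
set_option linter.style.haveILetI false

universe u

open CategoryTheory CategoryTheory.Limits AlgebraicGeometry Opposite

namespace LocSuppLib

variable {U Y : Scheme.{u}} (j : U ⟶ Y) [IsOpenImmersion j]

/-- The direct image of the restriction. -/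
noncomputable abbrev restrPush : Y.Modules ⥤ Y.Modules :=
  Scheme.Modules.restrictFunctor j ⋙ Scheme.Modules.pushforward j

instance : PreservesFiniteLimits (Scheme.Modules.pushforward j) :=
  have : PreservesLimitsOfSize.{0, 0} (Scheme.Modules.pushforward j) :=
    (Scheme.Modules.pullbackPushforwardAdjunction j).rightAdjoint_preservesLimits
  PreservesLimitsOfSize.preservesFiniteLimits _

/-- Inclusion of sections supported away from `U`. -/
noncomputable def gammaIncl : DCoh.gammaZ j ⟶ 𝟭 Y.Modules where
  app F := kernel.ι ((Scheme.Modules.restrictAdjunction j).unit.app F)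
  naturality _ _ _ := kernel.lift_ι _ _ _

theorem gammaIncl_comp : gammaIncl j ≫ (Scheme.Modules.restrictAdjunction j).unit = 0 :=
  NatTrans.ext (funext fun _ => kernel.condition _)

theorem epi_unit (I : Y.Modules) [Injective I] : Epi ((Scheme.Modules.restrictAdjunction j).unit.app I) := by
  apply (QCohLib.toAbF Y).epi_of_epi_map
  haveI : ∀ V, Epi (((QCohLib.toAbF Y).map ((Scheme.Modules.restrictAdjunction j).unit.app I)).hom.app V) := fun V =>
    (AddCommGrpCat.epi_iff_surjective _).2 (RpushLib.surjective_map_injective I (j.image_preimage_le V.unop))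
  haveI : Epi ((sheafToPresheaf (Opens.grothendieckTopology Y) AddCommGrpCat.{u}).map
      ((QCohLib.toAbF Y).map ((Scheme.Modules.restrictAdjunction j).unit.app I))) :=
    haveI : ∀ V, Epi (((sheafToPresheaf (Opens.grothendieckTopology Y) AddCommGrpCat.{u}).map
      ((QCohLib.toAbF Y).map ((Scheme.Modules.restrictAdjunction j).unit.app I))).app V) := this
    NatTrans.epi_of_epi_app _
  exact (sheafToPresheaf (Opens.grothendieckTopology Y) AddCommGrpCat.{u}).epi_of_epi_map this

theorem shortExact_gamma (I : Y.Modules) (hI : Injective I) :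
    (ShortComplex.mk ((gammaIncl j).app I) ((Scheme.Modules.restrictAdjunction j).unit.app I)
      (congr_app (gammaIncl_comp j) I)).ShortExact := by
  haveI := hI
  exact { exact := ShortComplex.exact_of_f_is_kernel _ (kernelIsKernel _)
          mono_f := equalizer.ι_mono
          epi_g := epi_unit j I }

variable [QuasiCompact j] [HasInjectiveResolutions Y.Modules]

theorem isQCoh_restr (M : Y.Modules) [Coh.IsQCoh M] : Coh.IsQCoh ((Scheme.Modules.restrictFunctor j).obj M) :=
  have := KFlatLib.isQCoh_pullback j M
  QCohLib.isQCoh_of_iso ((Scheme.Modules.restrictFunctorIsoPullback j).app M).symm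

theorem isQCoh_rightDerived_restrPush (M : Y.Modules) [Coh.IsQCoh M] (n : ℕ) :
    Coh.IsQCoh (((restrPush j).rightDerived n).obj M) := by
  haveI : Coh.IsQCoh (M.restrict j) := isQCoh_restr j M
  have h := RpushLib.isQCoh_homology (RpushLib.localizes_pushCx j
    ((RpushLib.FlRes.ofInjective (injectiveResolution M)).restrict j) n)
  exact @QCohLib.isQCoh_of_iso _ _ _ ((injectiveResolution M).isoRightDerivedObj (restrPush j) n).symm h

theorem isQCoh_HZshM (M : Y.Modules) [Coh.IsQCoh M] (q : ℕ) : Coh.IsQCoh ((LocCohZ.HZshM j q).obj M) := by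
  haveI := isQCoh_restr j M
  haveI hP : Coh.IsQCoh ((restrPush j).obj M) := QCohLib.isQCoh_pushforward j _
  match q with
  | 0 =>
    let R := injectiveResolution M
    let S := seq (gammaIncl j) (Scheme.Modules.restrictAdjunction j).unit (gammaIncl_comp j) R
    have hS : S.ShortExact := seq_shortExact _ _ _ (shortExact_gamma j) R
    haveI : Mono (HomologicalComplex.homologyMap S.f 0) := by
      haveI := hS.mono_f
      haveI : ∀ K : CochainComplex Y.Modules ℕ, IsIso (K.homologyπ 0) := fun K =>
        ShortComplex.isIso_homologyπ (K.sc 0) (K.shape _ _ (by simp))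
      refine (MorphismProperty.cancel_left_of_respectsIso (MorphismProperty.monomorphisms _) (S.X₁.homologyπ 0) _).1 ?_
      show Mono _
      rw [HomologicalComplex.homologyπ_naturality]
      infer_instance
    have hid : Coh.IsQCoh (S.X₂.homology 0) := by
      haveI : Coh.IsQCoh ((𝟭 Y.Modules).obj M) := ‹Coh.IsQCoh M›
      exact QCohLib.isQCoh_of_iso (((Functor.rightDerivedZeroIsoSelf (𝟭 Y.Modules)).app M).symm ≪≫
        R.isoRightDerivedObj (𝟭 Y.Modules) 0)
    have hPI : Coh.IsQCoh (S.X₃.homology 0) :=
      @QCohLib.isQCoh_of_iso _ _ _ (R.isoRightDerivedObj (restrPush j) 0) (isQCoh_rightDerived_restrPush j M 0)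
    haveI := QCohLib.isQCoh_kernel (HomologicalComplex.homologyMap S.g 0)
    exact @QCohLib.isQCoh_of_iso _ _ _ ((limit.isLimit _).conePointUniqueUpToIso (hS.homology_exact₂ 0).fIsKernel ≪≫
      (R.isoRightDerivedObj (DCoh.gammaZ j) 0).symm) (QCohLib.isQCoh_kernel (HomologicalComplex.homologyMap S.g 0))
  | 1 =>
    obtain ⟨e⟩ := nonempty_firstIso (T := DCoh.gammaZ j) (P := restrPush j) (gammaIncl j) _ (gammaIncl_comp j)
      (shortExact_gamma j)
    haveI : Coh.IsQCoh ((𝟭 Y.Modules).obj M) := ‹Coh.IsQCoh M›
    haveI : Coh.IsQCoh (cokernel (((evaluation Y.Modules Y.Modules).obj M).map (Scheme.Modules.restrictAdjunction j).unit)) :=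
      @QCohLib.isQCoh_cokernel _ _ _ ((Scheme.Modules.restrictAdjunction j).unit.app M) ‹Coh.IsQCoh M› hP
    exact QCohLib.isQCoh_of_iso ((PreservesCokernel.iso ((evaluation Y.Modules Y.Modules).obj M)
      (Scheme.Modules.restrictAdjunction j).unit).symm ≪≫ (e.app M).symm)
  | n + 2 =>
    exact @QCohLib.isQCoh_of_iso _ _ _
      ((shiftIso (T := DCoh.gammaZ j) (P := restrPush j) (gammaIncl j) _ (gammaIncl_comp j) (shortExact_gamma j)
        (n + 1) (Nat.le_add_left 1 n)).app M).symm (isQCoh_rightDerived_restrPush j M (n + 1))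

end LocSuppLib
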