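import Groth.Agent.LocSuppLib.HomPresheaf
import Mathlib.CategoryTheory.Abelian.RightDerived

/-! # Derived functors of `Hom(Z, -)` are `Ext(Z, -)`, naturally -/

universe w v' u u'

set_option linter.style.haveILetI false
set_option linter.unusedSectionVars false

open CategoryTheory CategoryTheory.Limits Opposite CategoryTheory.Abelian

namespace LocSuppLib

variable {A : Type u} [Category.{w} A] [Abelian A] [HasExt.{w} A] {D : Type w} [SmallCategory D] (Z : D ⥤ A)
  {M M' : A} (R : InjectiveResolution M) (R' : InjectiveResolution M')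

lemma homClass_zero_comp (q : ℕ) :
    (homCx Z R).toCycles ((ComplexShape.up ℕ).prev q) q ≫ homClass Z R q = 0 := by
  ext U x
  exact (homClass_apply_eq_zero_iff Z R q U _).2 ⟨x, rfl⟩

lemma homClass_exact (q : ℕ) : (ShortComplex.mk _ _ (homClass_zero_comp Z R q)).Exact := by
  rw [ShortComplex.exact_iff_isZero_homology, Functor.isZero_iff]
  intro U
  have : ((ShortComplex.mk _ _ (homClass_zero_comp Z R q)).map ((evaluation Dᵒᵖ AddCommGrpCat.{w}).obj U)).Exact :=
    (ShortComplex.ab_exact_iff _).2 fun x hx => (homClass_apply_eq_zero_iff Z R q U x).1 hx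
  exact ((ShortComplex.exact_iff_isZero_homology _).1 this).of_iso
    ((ShortComplex.mk _ _ (homClass_zero_comp Z R q)).mapHomologyIso ((evaluation Dᵒᵖ AddCommGrpCat.{w}).obj U)).symm

instance epi_homClass (q : ℕ) : Epi (homClass Z R q) :=
  haveI : ∀ U, Epi ((homClass Z R q).app U) := fun U =>
    (AddCommGrpCat.epi_iff_surjective _).2 (surjective_homClass Z R q U)
  NatTrans.epi_of_epi_app _

/-- The comparison of `Hom(Z, R)` with `Ext`. -/
noncomputable def homIso (q : ℕ) : (homCx Z R).homology q ≅ extPre Z M q :=
  IsColimit.coconePointUniqueUpToIso ((homCx Z R).homologyIsCokernel ((ComplexShape.up ℕ).prev q) q rfl)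
    (homClass_exact Z R q).gIsCokernel

lemma homologyπ_homIso (q : ℕ) : (homCx Z R).homologyπ q ≫ (homIso Z R q).hom = homClass Z R q :=
  IsColimit.comp_coconePointUniqueUpToIso_hom ((homCx Z R).homologyIsCokernel ((ComplexShape.up ℕ).prev q) q rfl)
    (homClass_exact Z R q).gIsCokernel WalkingParallelPair.one

variable {R R'}

lemma homIso_naturality {g : M ⟶ M'} (φ : InjectiveResolution.Hom R R' g) (q : ℕ) (U : Dᵒᵖ) :
    (HomologicalComplex.homologyMap (((homPre Z).mapHomologicalComplex (ComplexShape.up ℕ)).map φ.hom) q).app U ≫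
      (homIso Z R' q).hom.app U =
    (homIso Z R q).hom.app U ≫ ((extFunctor.{w} q).obj (op (Z.obj U.unop))).map g := by
  let F := ((homPre Z).mapHomologicalComplex (ComplexShape.up ℕ)).map φ.hom
  haveI : Epi (((homCx Z R).homologyπ q).app U) := inferInstance
  rw [← cancel_epi (((homCx Z R).homologyπ q).app U)]
  ext x
  have h1 : ((homCx Z R).homologyπ q ≫ HomologicalComplex.homologyMap F q).app U ≫ (homIso Z R' q).hom.app U =
      (HomologicalComplex.cyclesMap F q).app U ≫ (homClass Z R' q).app U := by
    rw [HomologicalComplex.homologyπ_naturality, ← homologyπ_homIso Z R' q]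
    rfl
  refine (ConcreteCategory.congr_hom h1 x).trans ?_
  refine Eq.trans ?_ (congrArg (fun t => ((extFunctor.{w} q).obj (op (Z.obj U.unop))).map g t)
    (ConcreteCategory.congr_hom (NatTrans.congr_app (homologyπ_homIso Z R q) U) x)).symm
  refine Eq.trans ?_ (InjectiveResolution.extMk_comp_mk₀ _ (q + 1) rfl (hom_cycle_cond Z R q U x) φ).symm
  change R'.extMk _ (q + 1) rfl (hom_cycle_cond Z R' q U _) = _
  congr 1
  exact ConcreteCategory.congr_hom (NatTrans.congr_app (HomologicalComplex.cyclesMap_i F q) U) x

variable [HasInjectiveResolutions A]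

/-- Evaluating `U ↦ Hom(Z U, -)` at `U` and deriving gives `Ext^q(Z U, -)`. -/
noncomputable def rightDerivedHomIso (U : Dᵒᵖ) (q : ℕ) :
    (homPre Z ⋙ (evaluation Dᵒᵖ AddCommGrpCat.{w}).obj U).rightDerived q ≅
      (extFunctor.{w} q).obj (op (Z.obj U.unop)) :=
  NatIso.ofComponents (fun M =>
    (injectiveResolution M).isoRightDerivedObj _ q ≪≫
      ((homCx Z (injectiveResolution M)).sc q).mapHomologyIso ((evaluation Dᵒᵖ AddCommGrpCat.{w}).obj U) ≪≫
      ((evaluation Dᵒᵖ AddCommGrpCat.{w}).obj U).mapIso (homIso Z (injectiveResolution M) q))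
    (fun {M M'} g => by
      let φ : InjectiveResolution.Hom (injectiveResolution M) (injectiveResolution M') g :=
        { hom := InjectiveResolution.desc g (injectiveResolution M') (injectiveResolution M)
          ι_f_zero_comp_hom_f_zero := (InjectiveResolution.desc_commutes_zero g (injectiveResolution M') (injectiveResolution M)).trans (by simp) }
      let ev := (evaluation Dᵒᵖ AddCommGrpCat.{w}).obj U
      have h1 := InjectiveResolution.isoRightDerivedObj_hom_naturality g (injectiveResolution M) (injectiveResolution M')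
        φ.hom (InjectiveResolution.desc_commutes_zero g _ _) (homPre Z ⋙ ev) q
      have h2 := ShortComplex.mapHomologyIso_hom_naturality
        ((HomologicalComplex.shortComplexFunctor _ (ComplexShape.up ℕ) q).map
          (((homPre Z).mapHomologicalComplex (ComplexShape.up ℕ)).map φ.hom)) ev
      have h3 := homIso_naturality Z φ q U
      simp only [Iso.trans_hom, Functor.mapIso_hom]
      rw [← Category.assoc, h1]
      refine (Category.assoc _ _ _).trans ?_
      refine Eq.trans ?_ (Category.assoc _ _ _).symm
      refine congrArg (_ ≫ ·) ?_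
      refine (Category.assoc _ _ _).symm.trans ?_
      refine (congrArg (· ≫ _) h2).trans ?_
      refine (Category.assoc _ _ _).trans ?_
      refine Eq.trans ?_ (Category.assoc _ _ _).symm
      exact congrArg (_ ≫ ·) h3)

end LocSuppLib
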