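import Groth.Agent.LocSuppLib.HomPresheaf
import Groth.Agent.CohLib.SuppPush
import Groth.Agent.CohTopLib.Basic
import Groth.Prelude.Def_SuppFam

/-! # Local cohomology sheaves with supports in a locally closed subset -/

universe u

set_option linter.style.haveILetI false

open CategoryTheory CategoryTheory.Limits Opposite TopologicalSpace SuppFam

namespace LocSuppLib

variable {X : TopCat.{u}} {W V : Opens X} (h : W ≤ V)

/-- `V' ↦ ℤ_{V ∩ V'}/ℤ_{W ∩ V'}`. -/
noncomputable def zqFun : Opens X ⥤ CohTop.Ab X where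
  obj V' := LocCohZ.zq (inf_le_inf_right V' h : W ⊓ V' ≤ V ⊓ V')
  map {A B} g := LocCohZ.zqMap (inf_le_inf_right B h) (inf_le_inf_right A h)
    (inf_le_inf_left W (leOfHom g)) (inf_le_inf_left V (leOfHom g))
  map_id _ := zqMap_id _
  map_comp _ _ := (zqMap_comp _ _ _ _ _ _ _).symm

/-- The presheaf of cohomology with supports as a presheaf of `Ext` groups. -/
noncomputable def extPreIso (F : CohTop.Ab X) (q : ℕ) : extPre (zqFun h) F q ≅ HZpre F q h :=
  NatIso.ofComponents (fun _ => Iso.refl _) (fun f => by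
    refine (Category.comp_id _).trans (Eq.trans ?_ (Category.id_comp _).symm)
    rfl)

lemma image_preimage_incl (V' : Opens X) :
    V.isOpenEmbedding.functor.obj ((Opens.map (CohCx.incl V)).obj V') = V ⊓ V' := by
  ext x
  exact ⟨fun ⟨y, hy, e⟩ => e ▸ ⟨y.2, hy⟩, fun hx => ⟨⟨x, hx.1⟩, hx.2, rfl⟩⟩

lemma image_preimage_inf (V' : Opens X) :
    V.isOpenEmbedding.functor.obj ((Opens.map (CohCx.incl V)).obj V' ⊓ inOpen V W) = W ⊓ V' ⊓ V := by
  ext x
  exact ⟨fun ⟨y, hy, e⟩ => e ▸ ⟨⟨hy.2, hy.1⟩, y.2⟩, fun hx => ⟨⟨x, hx.2⟩, ⟨hx.1.2, hx.1.1⟩, rfl⟩⟩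

lemma res_res {Y : TopCat.{u}} (P : (Opens Y)ᵒᵖ ⥤ AddCommGrpCat.{u}) {a b c : (Opens Y)ᵒᵖ} (f : a ⟶ b)
    (g : b ⟶ c) (k : a ⟶ c) (x : P.obj a) : P.map g (P.map f x) = P.map k x :=
  (ConcreteCategory.congr_hom (P.map_comp f g) x).symm.trans
    (ConcreteCategory.congr_hom (congrArg P.map (Subsingleton.elim _ _)) x)

lemma res_self {Y : TopCat.{u}} (P : (Opens Y)ᵒᵖ ⥤ AddCommGrpCat.{u}) {a b : (Opens Y)ᵒᵖ} (f : a ⟶ b)
    (g : b ⟶ a) (x : P.obj a) : P.map g (P.map f x) = x :=
  (res_res P f g (𝟙 a) x).trans (ConcreteCategory.congr_hom (P.map_id a) x)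

/-- The inclusion of `Γ_Z(F)` in `(j_V)_*(F|_V)`. -/
noncomputable abbrev lcι (F : CohTop.Ab X) :
    (sectSuppLC h).obj F ⟶ (CohTop.push (CohCx.incl V)).obj ((CohTop.restrFunctor V).obj F) :=
  (CohTop.push (CohCx.incl V)).map (kernel.ι (CohLib.suppUnit (inOpen V W) ((CohTop.restrFunctor V).obj F)))

lemma lc_mem_iff (F : CohTop.Ab X) (V' : Opens X)
    (t : F.obj.obj (op (V ⊓ V'))) :
    (CohLib.suppUnit (inOpen V W) ((CohTop.restrFunctor V).obj F)).hom.app (op ((Opens.map (CohCx.incl V)).obj V'))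
        (F.obj.map (homOfLE (image_preimage_incl (V := V) V').le).op t) = 0 ↔
      F.obj.map (homOfLE (inf_le_inf_right V' h)).op t = 0 := by
  refine (CohLib.suppUnit_app_eq_zero_iff (inOpen V W) ((CohTop.restrFunctor V).obj F) _ _).trans ?_
  change F.obj.map _ (F.obj.map _ t) = 0 ↔ _
  have hle : V.isOpenEmbedding.functor.obj ((Opens.map (CohCx.incl V)).obj V' ⊓ inOpen V W) = W ⊓ V' := by
    rw [image_preimage_inf]; exact inf_of_le_left (inf_le_left.trans h)
  constructor <;> intro ht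
  · refine Eq.trans ?_ ((congrArg (F.obj.map (homOfLE hle.ge).op) ht).trans (map_zero _))
    exact ((congrArg (F.obj.map (homOfLE hle.ge).op) (res_res F.obj _ _
      (homOfLE (hle.le.trans (inf_le_inf_right V' h))).op t)).trans (res_res F.obj _ _ _ t)).symm
  · refine Eq.trans ?_ ((congrArg (F.obj.map (homOfLE hle.le).op) ht).trans (map_zero _))
    exact (res_res F.obj _ _ (homOfLE (hle.le.trans (inf_le_inf_right V' h))).op t).trans
      (res_res F.obj _ _ _ t).symm

/-- A section of `Γ_Z(F)` as a section of `F` over `V ∩ V'` vanishing on `W ∩ V'`. -/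
noncomputable def lcSec (F : CohTop.Ab X) (V' : Opens X) :
    ((sectSuppLC h).obj F).obj.obj (op V') →+ LocCohZ.sectZ F (inf_le_inf_right V' h) :=
  (((lcι h F).hom.app (op V') ≫ F.obj.map (homOfLE (image_preimage_incl (V := V) V').ge).op).hom).codRestrict _ fun s => by
    rw [AddMonoidHom.mem_ker]
    refine (lc_mem_iff h F V' _).1 ?_
    have e := congrArg (fun f => f.hom.app (op ((Opens.map (CohCx.incl V)).obj V')) s)
      (kernel.condition (CohLib.suppUnit (inOpen V W) ((CohTop.restrFunctor V).obj F)))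
    exact Eq.trans (congrArg _ (res_self F.obj _ _ _)) e

lemma lcSec_bijective (F : CohTop.Ab X) (V' : Opens X) : Function.Bijective (lcSec h F V') := by
  let φ := CohLib.suppUnit (inOpen V W) ((CohTop.restrFunctor V).obj F)
  let P := (Opens.map (CohCx.incl V)).obj V'
  let S : ShortComplex (CohTop.Ab (TopCat.of V)) := ShortComplex.mk _ _ (kernel.condition φ)
  let G := sheafToPresheaf (Opens.grothendieckTopology (TopCat.of V)) AddCommGrpCat.{u} ⋙
    (evaluation _ AddCommGrpCat.{u}).obj (op P)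
  obtain ⟨hex, hmono⟩ := ((Functor.preservesFiniteLimits_tfae G).out 1 3 rfl rfl).mpr inferInstance S
    ⟨ShortComplex.exact_of_f_is_kernel _ (kernelIsKernel φ), (inferInstance : Mono (kernel.ι φ))⟩
  refine ⟨fun s t hst => ?_, fun t => ?_⟩
  · apply (AddCommGrpCat.mono_iff_injective _).1 hmono
    have := congrArg (fun r => F.obj.map (homOfLE (image_preimage_incl (V := V) V').le).op r.1) hst
    exact (res_self F.obj _ _ _).symm.trans (this.trans (res_self F.obj _ _ _))
  · obtain ⟨s, hs⟩ := (ShortComplex.ab_exact_iff _).1 hex (F.obj.map (homOfLE (image_preimage_incl (V := V) V').le).op t.1)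
      ((lc_mem_iff h F V' t.1).2 t.2)
    exact ⟨s, Subtype.ext ((congrArg (F.obj.map (homOfLE (image_preimage_incl (V := V) V').ge).op) hs).trans
      (res_self F.obj _ _ _))⟩

lemma zqHom_zqMap (F : CohTop.Ab X) {W₁ V₁ W₂ V₂ : Opens X} (h₁ : W₁ ≤ V₁) (h₂ : W₂ ≤ V₂) (hW : W₂ ≤ W₁)
    (hV : V₂ ≤ V₁) (x : LocCohZ.zq h₁ ⟶ F) :
    (CohLib.zqHom F h₂ (LocCohZ.zqMap h₁ h₂ hW hV ≫ x)).1 =
      F.obj.map (homOfLE hV).op (CohLib.zqHom F h₁ x).1 := by
  rw [CohLib.zqHom_coe, CohLib.zqHom_coe, LocCohZ.zqMap, cokernel.π_desc_assoc, Category.assoc]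
  exact CohFree.evalGen_freeSheafMap_comp _ _ _ _

/-- Sections of `Γ_Z(F)` are maps out of `ℤ_{V ∩ V'}/ℤ_{W ∩ V'}`. -/
noncomputable def lcEquiv (F : CohTop.Ab X) (V' : Opens X) :
    ((sectSuppLC h).obj F).obj.obj (op V') ≃+ ((zqFun h).obj V' ⟶ F) :=
  (AddEquiv.ofBijective _ (lcSec_bijective h F V')).trans (CohLib.zqHom F _).symm

lemma zqHom_lcEquiv (F : CohTop.Ab X) (V' : Opens X) (s : ((sectSuppLC h).obj F).obj.obj (op V')) :
    (CohLib.zqHom F (inf_le_inf_right V' h) (lcEquiv h F V' s)).1 =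
      F.obj.map (homOfLE (image_preimage_incl (V := V) V').ge).op ((lcι h F).hom.app (op V') s) :=
  congrArg Subtype.val ((CohLib.zqHom F (inf_le_inf_right V' h)).apply_symm_apply (lcSec h F V' s))

/-- `Γ_Z` as a functor to presheaves. -/
noncomputable def lcIso :
    sectSuppLC h ⋙ sheafToPresheaf (Opens.grothendieckTopology X) AddCommGrpCat.{u} ≅ homPre (zqFun h) :=
  NatIso.ofComponents (fun F => NatIso.ofComponents (fun V' => (lcEquiv h F V'.unop).toAddCommGrpIso)
    (fun {A B} f => by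
      ext s
      apply (CohLib.zqHom F (inf_le_inf_right B.unop h)).injective
      apply Subtype.ext
      refine (zqHom_lcEquiv h F B.unop _).trans ?_
      refine Eq.trans ?_ (zqHom_zqMap F (inf_le_inf_right A.unop h) (inf_le_inf_right B.unop h)
        (inf_le_inf_left W (leOfHom f.unop)) (inf_le_inf_left V (leOfHom f.unop)) (lcEquiv h F A.unop s)).symm
      rw [zqHom_lcEquiv]
      refine (congrArg _ (NatTrans.naturality_apply (lcι h F).hom f s)).trans ?_
      refine (ConcreteCategory.congr_hom (F.obj.map_comp _ _) _).symm.trans ?_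
      refine Eq.trans ?_ (ConcreteCategory.congr_hom (F.obj.map_comp _ _) _)
      exact ConcreteCategory.congr_hom (congrArg F.obj.map (Subsingleton.elim _ _)) _))
    (fun {F G} φ => by
      ext V' s
      apply (CohLib.zqHom G (inf_le_inf_right V'.unop h)).injective
      apply Subtype.ext
      refine (zqHom_lcEquiv h G V'.unop _).trans ?_
      refine Eq.trans ?_ (CohLib.zqHom_comp φ _ (lcEquiv h F V'.unop s)).symm
      rw [zqHom_lcEquiv]
      have e : (sectSuppLC h).map φ ≫ lcι h G = lcι h F ≫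
          (CohTop.push (CohCx.incl V)).map ((CohTop.restrFunctor V).map φ) := by
        change (CohTop.push (CohCx.incl V)).map _ ≫ (CohTop.push (CohCx.incl V)).map _ = _
        exact (Functor.map_comp _ _ _).symm.trans ((congrArg _ (kernel.lift_ι _ _ _)).trans (Functor.map_comp _ _ _))
      refine (congrArg _ (congrArg (fun f => f.hom.app (op V'.unop) s) e)).trans ?_
      exact (NatTrans.naturality_apply φ.hom _ _).symm)

/-- `ℋ^q_Z(F)` is the sheaf associated to `V' ↦ H^q_{Z ∩ V'}(V', F)`. -/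
theorem nonempty_HZshLC_iso_sheafify (F : CohTop.Ab X) (q : ℕ) :
    Nonempty ((HZshLC h q).obj F ≅
      (presheafToSheaf (Opens.grothendieckTopology X) AddCommGrpCat.{u}).obj (HZpre F q h)) := by
  let J := Opens.grothendieckTopology X
  let R : InjectiveResolution F := injectiveResolution F
  let a := presheafToSheaf J AddCommGrpCat.{u}
  haveI : a.Additive := (sheafificationAdjunction J AddCommGrpCat.{u}).left_adjoint_additive
  obtain ⟨e⟩ := nonempty_homCx_homology_iso (zqFun h) R q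
  let S := (((sectSuppLC h).mapHomologicalComplex _).obj R.cocomplex).sc q
  let S' := (R.cocomplex.sc q).map (sectSuppLC h ⋙ sheafToPresheaf J AddCommGrpCat.{u})
  exact ⟨R.isoRightDerivedObj (sectSuppLC h) q ≪≫
    (ShortComplex.homologyMapIso ((S.mapNatIso (asIso (sheafificationAdjunction J AddCommGrpCat.{u}).counit)) ≪≫
      Iso.refl _)).symm ≪≫
    (S.map (sheafToPresheaf J AddCommGrpCat.{u})).mapHomologyIso a ≪≫
    a.mapIso (ShortComplex.homologyMapIso ((R.cocomplex.sc q).mapNatIso (lcIso h)) ≪≫ e ≪≫ extPreIso h F q)⟩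

/-- Flasque sheaves are acyclic for `Γ_Z`. -/
theorem isZero_HZshLC_of_isFlasque (F : CohTop.Ab X) [TopCat.Sheaf.IsFlasque (F : TopCat.Sheaf AddCommGrpCat X)]
    {q : ℕ} (hq : 0 < q) : IsZero ((HZshLC h q).obj F) := by
  obtain ⟨e⟩ := nonempty_HZshLC_iso_sheafify h F q
  haveI : (presheafToSheaf (Opens.grothendieckTopology X) AddCommGrpCat.{u}).Additive :=
    (sheafificationAdjunction _ AddCommGrpCat.{u}).left_adjoint_additive
  refine IsZero.of_iso (Functor.map_isZero _ (Functor.isZero _ fun U => ?_)) e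
  obtain ⟨q, rfl⟩ := Nat.exists_eq_succ_of_ne_zero hq.ne'
  exact @AddCommGrpCat.isZero_of_subsingleton _
    (CohLib.subsingleton_ext_zq_of_isFlasque (inf_le_inf_right U.unop h) F q)

end LocSuppLib
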