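import Groth.Agent.LocSuppLib.QCohSupp
import Groth.Agent.LocSuppLib.LC
import Groth.Agent.RpushLib.Ab

/-! # Local cohomology sheaves of quasi-coherent modules, locally closed supports -/

universe u

set_option linter.style.haveILetI false

open CategoryTheory CategoryTheory.Limits AlgebraicGeometry Opposite TopologicalSpace SuppFam

namespace LocSuppLib

attribute [local instance] HasDerivedCategory.standard

lemma preservesFiniteLimits_sectSuppLC {X : TopCat.{u}} {W V : Opens X} (h : W ≤ V) :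
    PreservesFiniteLimits (sectSuppLC h) := by
  haveI : PreservesFiniteLimits (homPre (zqFun h)) := ⟨fun J _ _ =>
    preservesLimitsOfShape_of_evaluation _ J fun U =>
      inferInstanceAs (PreservesLimitsOfShape J (preadditiveCoyoneda.obj (op ((zqFun h).obj U.unop))))⟩
  haveI : PreservesFiniteLimits (sectSuppLC h ⋙ sheafToPresheaf (Opens.grothendieckTopology X) AddCommGrpCat.{u}) :=
    preservesFiniteLimits_of_natIso (lcIso h).symm
  exact preservesFiniteLimits_of_reflects_of_preserves (sectSuppLC h)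
    (sheafToPresheaf (Opens.grothendieckTopology X) AddCommGrpCat.{u})

theorem epi_unit_of_surjective {U Y : Scheme.{u}} (j : U ⟶ Y) [IsOpenImmersion j] (N : Y.Modules)
    (hN : ∀ W : Y.Opens, Function.Surjective (N.presheaf.map (homOfLE (j.image_preimage_le W)).op)) :
    Epi ((Scheme.Modules.restrictAdjunction j).unit.app N) := by
  apply (QCohLib.toAbF Y).epi_of_epi_map
  haveI : ∀ V, Epi (((QCohLib.toAbF Y).map ((Scheme.Modules.restrictAdjunction j).unit.app N)).hom.app V) := fun V =>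
    (AddCommGrpCat.epi_iff_surjective _).2 (hN V.unop)
  haveI : ∀ V, Epi (((sheafToPresheaf (Opens.grothendieckTopology Y) AddCommGrpCat.{u}).map
      ((QCohLib.toAbF Y).map ((Scheme.Modules.restrictAdjunction j).unit.app N))).app V) := this
  haveI : Epi ((sheafToPresheaf (Opens.grothendieckTopology Y) AddCommGrpCat.{u}).map
      ((QCohLib.toAbF Y).map ((Scheme.Modules.restrictAdjunction j).unit.app N))) := NatTrans.epi_of_epi_app _
  exact (sheafToPresheaf (Opens.grothendieckTopology Y) AddCommGrpCat.{u}).epi_of_epi_map this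

variable {Y : Scheme.{u}} {V₂ V₁ : Y.Opens} (h : V₂ ≤ V₁)

include h in
lemma isIso_restr_unit (M : Y.Modules) :
    IsIso ((Scheme.Modules.restrictFunctor V₂.ι).map ((Scheme.Modules.restrictAdjunction V₁.ι).unit.app M)) := by
  refine Scheme.Modules.Hom.isIso_iff_isIso_app.2 fun A => ?_
  have hA : V₂.ι ''ᵁ A ≤ V₁ := fun x ⟨y, _, e⟩ => e ▸ h y.2
  have e : V₁.ι ''ᵁ V₁.ι ⁻¹ᵁ (V₂.ι ''ᵁ A) = V₂.ι ''ᵁ A := by
    rw [Scheme.Hom.image_preimage_eq_opensRange_inf, Scheme.Opens.opensRange_ι]
    exact inf_of_le_right hA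
  haveI : IsIso (homOfLE (V₁.ι.image_preimage_le (V₂.ι ''ᵁ A))) := ⟨homOfLE e.ge, Subsingleton.elim _ _, Subsingleton.elim _ _⟩
  exact inferInstanceAs (IsIso (M.presheaf.map (homOfLE (V₁.ι.image_preimage_le (V₂.ι ''ᵁ A))).op))

/-- `M|V₂ ≅ ((j₁)_* (M|V₁))|V₂`. -/
noncomputable def restrRestrIso : Scheme.Modules.restrictFunctor V₂.ι ≅
    restrPush V₁.ι ⋙ Scheme.Modules.restrictFunctor V₂.ι :=
  NatIso.ofComponents (fun M => @asIso _ _ _ _ _ (isIso_restr_unit h M)) (fun {M N} φ =>
    (Functor.map_comp _ _ _).symm.trans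
      ((congrArg _ ((Scheme.Modules.restrictAdjunction V₁.ι).unit.naturality φ)).trans (Functor.map_comp _ _ _)))

/-- `Γ_Z` on modules, `Z = V₁ ∖ V₂`. -/
noncomputable abbrev gammaLC : Y.Modules ⥤ Y.Modules := restrPush V₁.ι ⋙ DCoh.gammaZ V₂.ι

lemma inf_eq₁ (V' : Y.Opens) : V₁.ι ''ᵁ V₁.ι ⁻¹ᵁ V' = V₁ ⊓ V' := by
  rw [Scheme.Hom.image_preimage_eq_opensRange_inf, Scheme.Opens.opensRange_ι]

include h in
lemma inf_eq₂ (V' : Y.Opens) : V₁.ι ''ᵁ V₁.ι ⁻¹ᵁ (V₂.ι ''ᵁ V₂.ι ⁻¹ᵁ V') = V₂ ⊓ V' := by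
  rw [inf_eq₁, Scheme.Hom.image_preimage_eq_opensRange_inf, Scheme.Opens.opensRange_ι, ← inf_assoc,
    inf_of_le_right h]

/-- The inclusion `Γ_Z(M) → (j₁)_*(M|V₁)`, on abelian sheaves. -/
noncomputable abbrev mlcι (M : Y.Modules) :
    (QCohLib.toAbF Y).obj ((gammaLC (V₁ := V₁) (V₂ := V₂)).obj M) ⟶ (QCohLib.toAbF Y).obj ((restrPush V₁.ι).obj M) :=
  (QCohLib.toAbF Y).map ((gammaIncl V₂.ι).app ((restrPush V₁.ι).obj M))

lemma mlc_mem_iff (M : Y.Modules) (V' : Y.Opens) (t : M.presheaf.obj (op (V₁ ⊓ V'))) :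
    ((QCohLib.toAbF Y).map ((Scheme.Modules.restrictAdjunction V₂.ι).unit.app ((restrPush V₁.ι).obj M))).hom.app
        (op V') (M.presheaf.map (homOfLE (inf_eq₁ V').le).op t) = 0 ↔
      M.presheaf.map (homOfLE (inf_le_inf_right V' h)).op t = 0 := by
  change M.presheaf.map _ (M.presheaf.map _ t) = 0 ↔ _
  constructor <;> intro ht
  · refine Eq.trans ?_ ((congrArg (M.presheaf.map (homOfLE (inf_eq₂ h V').ge).op) ht).trans (map_zero _))
    exact ((congrArg (M.presheaf.map (homOfLE (inf_eq₂ h V').ge).op) (res_res M.presheaf _ _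
      (homOfLE ((inf_eq₂ h V').le.trans (inf_le_inf_right V' h))).op t)).trans (res_res M.presheaf _ _ _ t)).symm
  · refine Eq.trans ?_ ((congrArg (M.presheaf.map (homOfLE (inf_eq₂ h V').le).op) ht).trans (map_zero _))
    exact (res_res M.presheaf _ _ (homOfLE ((inf_eq₂ h V').le.trans (inf_le_inf_right V' h))).op t).trans
      (res_res M.presheaf _ _ _ t).symm

/-- A section of `Γ_Z(M)` as a section of `M` vanishing outside `Z`. -/
noncomputable def mlcSec (M : Y.Modules) (V' : Y.Opens) :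
    ((QCohLib.toAbF Y).obj ((gammaLC (V₁ := V₁) (V₂ := V₂)).obj M)).obj.obj (op V') →+
      LocCohZ.sectZ ((QCohLib.toAbF Y).obj M) (inf_le_inf_right V' h) :=
  (((mlcι M).hom.app (op V') ≫ M.presheaf.map (homOfLE (inf_eq₁ (V₁ := V₁) V').ge).op).hom).codRestrict _ fun s => by
    refine (mlc_mem_iff h M V' _).1 ?_
    have e := congrArg (fun f => ((QCohLib.toAbF Y).map f).hom.app (op V') s)
      (congr_app (gammaIncl_comp V₂.ι) ((restrPush V₁.ι).obj M))
    exact Eq.trans (congrArg _ (res_self M.presheaf _ _ _)) e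

lemma mlcSec_bijective (M : Y.Modules) (V' : Y.Opens) : Function.Bijective (mlcSec h M V') := by
  let N := (restrPush V₁.ι).obj M
  let S : ShortComplex Y.Modules := ShortComplex.mk ((gammaIncl V₂.ι).app N)
    ((Scheme.Modules.restrictAdjunction V₂.ι).unit.app N) (congr_app (gammaIncl_comp V₂.ι) N)
  let G := QCohLib.toAbF Y ⋙ sheafToPresheaf (Opens.grothendieckTopology Y.carrier) AddCommGrpCat.{u} ⋙
    (evaluation _ AddCommGrpCat.{u}).obj (op V')
  haveI : G.Additive := inferInstance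
  obtain ⟨hex, hmono⟩ := ((Functor.preservesFiniteLimits_tfae G).out 1 3 rfl rfl).mpr inferInstance S
    ⟨ShortComplex.exact_of_f_is_kernel _ (kernelIsKernel _), (inferInstance : Mono (kernel.ι _))⟩
  refine ⟨fun s t hst => ?_, fun t => ?_⟩
  · apply (AddCommGrpCat.mono_iff_injective _).1 hmono
    have := congrArg (fun r => M.presheaf.map (homOfLE (inf_eq₁ (V₁ := V₁) V').le).op r.1) hst
    exact (res_self M.presheaf _ _ _).symm.trans (this.trans (res_self M.presheaf _ _ _))
  · obtain ⟨s, hs⟩ := (ShortComplex.ab_exact_iff _).1 hex (M.presheaf.map (homOfLE (inf_eq₁ (V₁ := V₁) V').le).op t.1)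
      ((mlc_mem_iff h M V' t.1).2 t.2)
    exact ⟨s, Subtype.ext ((congrArg (M.presheaf.map (homOfLE (inf_eq₁ (V₁ := V₁) V').ge).op) hs).trans
      (res_self M.presheaf _ _ _))⟩

/-- Sections of `Γ_Z(M)` are maps out of `ℤ_{V₁ ∩ V'}/ℤ_{V₂ ∩ V'}`. -/
noncomputable def mlcEquiv (M : Y.Modules) (V' : Y.Opens) :
    ((QCohLib.toAbF Y).obj ((gammaLC (V₁ := V₁) (V₂ := V₂)).obj M)).obj.obj (op V') ≃+
      ((zqFun (X := Y.carrier) h).obj V' ⟶ (QCohLib.toAbF Y).obj M) :=
  (AddEquiv.ofBijective _ (mlcSec_bijective h M V')).trans (CohLib.zqHom _ _).symm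

lemma zqHom_mlcEquiv (M : Y.Modules) (V' : Y.Opens)
    (s : ((QCohLib.toAbF Y).obj ((gammaLC (V₁ := V₁) (V₂ := V₂)).obj M)).obj.obj (op V')) :
    (CohLib.zqHom ((QCohLib.toAbF Y).obj M) (inf_le_inf_right V' h) (mlcEquiv h M V' s)).1 =
      M.presheaf.map (homOfLE (inf_eq₁ (V₁ := V₁) V').ge).op ((mlcι M).hom.app (op V') s) :=
  congrArg Subtype.val ((CohLib.zqHom _ (inf_le_inf_right V' h)).apply_symm_apply (mlcSec h M V' s))

/-- `Γ_Z` on modules as a functor to presheaves. -/
noncomputable def gammaLCPreIso :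
    (gammaLC (V₁ := V₁) (V₂ := V₂) ⋙ QCohLib.toAbF Y) ⋙
        sheafToPresheaf (Opens.grothendieckTopology Y.carrier) AddCommGrpCat.{u} ≅
      QCohLib.toAbF Y ⋙ homPre (zqFun (X := Y.carrier) h) :=
    (NatIso.ofComponents (fun M => NatIso.ofComponents (fun V' => (mlcEquiv h M V'.unop).toAddCommGrpIso)
      (fun {A B} f => by
        ext s
        apply (CohLib.zqHom ((QCohLib.toAbF Y).obj M) (inf_le_inf_right B.unop h)).injective
        apply Subtype.ext
        refine (zqHom_mlcEquiv h M B.unop _).trans ?_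
        refine Eq.trans ?_ (zqHom_zqMap ((QCohLib.toAbF Y).obj M) (inf_le_inf_right A.unop h)
          (inf_le_inf_right B.unop h) (inf_le_inf_left V₂ (leOfHom f.unop)) (inf_le_inf_left V₁ (leOfHom f.unop))
          (mlcEquiv h M A.unop s)).symm
        rw [zqHom_mlcEquiv]
        refine (congrArg _ (NatTrans.naturality_apply (mlcι M).hom f s)).trans ?_
        exact (res_res M.presheaf _ _ ((homOfLE ((inf_le_inf_left V₁ (leOfHom f.unop)).trans
          (inf_eq₁ (V₁ := V₁) A.unop).ge)).op) _).trans (res_res M.presheaf _ _ _ _).symm))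
      (fun {M N} φ => by
        ext V' s
        apply (CohLib.zqHom ((QCohLib.toAbF Y).obj N) (inf_le_inf_right V'.unop h)).injective
        apply Subtype.ext
        refine (zqHom_mlcEquiv h N V'.unop _).trans ?_
        refine Eq.trans ?_ (CohLib.zqHom_comp ((QCohLib.toAbF Y).map φ) _ (mlcEquiv h M V'.unop s)).symm
        rw [zqHom_mlcEquiv]
        have e : ((gammaLC (V₁ := V₁) (V₂ := V₂)).map φ) ≫ (gammaIncl V₂.ι).app ((restrPush V₁.ι).obj N) =
            (gammaIncl V₂.ι).app ((restrPush V₁.ι).obj M) ≫ (restrPush V₁.ι).map φ :=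
          (gammaIncl V₂.ι).naturality _
        refine (congrArg _ (congrArg (fun f => ((QCohLib.toAbF Y).map f).hom.app (op V'.unop) s) e)).trans ?_
        exact (NatTrans.naturality_apply ((QCohLib.toAbF Y).map φ).hom _ _).symm))

/-- The module and the abelian `Γ_Z` agree. -/
noncomputable def gammaLCIso :
    gammaLC (V₁ := V₁) (V₂ := V₂) ⋙ QCohLib.toAbF Y ≅ QCohLib.toAbF Y ⋙ sectSuppLC (X := Y.carrier) h :=
  Functor.fullyFaithfulCancelRight (sheafToPresheaf (Opens.grothendieckTopology Y.carrier) AddCommGrpCat.{u})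
    (gammaLCPreIso h ≪≫ Functor.isoWhiskerLeft (QCohLib.toAbF Y) (lcIso (X := Y.carrier) h).symm ≪≫
      (Functor.associator _ _ _).symm)

variable [HasInjectiveResolutions Y.Modules] [QuasiCompact V₁.ι] [QuasiCompact V₂.ι]

include h in
theorem isQCoh_homology_gammaLC {M : Y.Modules} [Coh.IsQCoh M] (I : InjectiveResolution M) (n : ℕ) :
    Coh.IsQCoh ((((gammaLC (V₁ := V₁) (V₂ := V₂)).mapHomologicalComplex (ComplexShape.up ℕ)).obj I.cocomplex).homology n) := by
  let N : CochainComplex Y.Modules ℕ := ((restrPush V₁.ι).mapHomologicalComplex _).obj I.cocomplex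
  let S : ShortComplex (CochainComplex Y.Modules ℕ) :=
    ShortComplex.mk ((NatTrans.mapHomologicalComplex (gammaIncl V₂.ι) _).app N)
      ((NatTrans.mapHomologicalComplex (Scheme.Modules.restrictAdjunction V₂.ι).unit _).app N) (by
        ext k : 1
        exact congr_app (gammaIncl_comp V₂.ι) (N.X k))
  have hS : S.ShortExact := HomologicalComplex.shortExact_of_degreewise_shortExact _ fun k =>
    { exact := ShortComplex.exact_of_f_is_kernel _ (kernelIsKernel _)
      mono_f := equalizer.ι_mono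
      epi_g := by
        haveI := I.injective k
        exact epi_unit_of_surjective V₂.ι (N.X k) fun W =>
          RpushLib.surjective_map_injective (I.cocomplex.X k)
            (V₁.ι.image_mono (V₁.ι.preimage_mono (V₂.ι.image_preimage_le W))) }
  have h2 : ∀ m, Coh.IsQCoh (S.X₂.homology m) := fun m => by
    haveI : Coh.IsQCoh (M.restrict V₁.ι) := isQCoh_restr V₁.ι M
    exact RpushLib.isQCoh_homology (RpushLib.localizes_pushCx V₁.ι
      ((RpushLib.FlRes.ofInjective I).restrict V₁.ι) m)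
  have h3 : ∀ m, Coh.IsQCoh (S.X₃.homology m) := fun m => by
    haveI : Coh.IsQCoh (M.restrict V₂.ι) := isQCoh_restr V₂.ι M
    let K := ((RpushLib.FlRes.ofInjective I).restrict V₂.ι).K
    have hK : Coh.IsQCoh ((RpushLib.pushCx V₂.ι K).homology m) := RpushLib.isQCoh_homology
      (RpushLib.localizes_pushCx V₂.ι ((RpushLib.FlRes.ofInjective I).restrict V₂.ι) m)
    refine @QCohLib.isQCoh_of_iso _ _ _ (HomologicalComplex.homologyMapIso
      ((NatIso.mapHomologicalComplex (Functor.isoWhiskerRight (restrRestrIso h) (Scheme.Modules.pushforward V₂.ι))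
        (ComplexShape.up ℕ)).app I.cocomplex) m) hK
  have hex := hS.homology_exact₂ n
  haveI := h2 n
  haveI := h3 n
  haveI hker : Coh.IsQCoh (kernel (HomologicalComplex.homologyMap S.g n)) := QCohLib.isQCoh_kernel _
  change Coh.IsQCoh (S.X₁.homology n)
  cases n with
  | zero =>
    haveI : Mono (HomologicalComplex.homologyMap S.f 0) := by
      haveI := hS.mono_f
      haveI : ∀ K : CochainComplex Y.Modules ℕ, IsIso (K.homologyπ 0) := fun K =>
        ShortComplex.isIso_homologyπ (K.sc 0) (K.shape _ _ (by simp))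
      refine (MorphismProperty.cancel_left_of_respectsIso (MorphismProperty.monomorphisms _) (S.X₁.homologyπ 0) _).1 ?_
      show Mono _
      rw [HomologicalComplex.homologyπ_naturality]
      infer_instance
    exact @QCohLib.isQCoh_of_iso _ _ _ ((limit.isLimit _).conePointUniqueUpToIso hex.fIsKernel) hker
  | succ k =>
    haveI := h2 k
    haveI := h3 k
    have hδ := hS.homology_exact₁ k (k + 1) (rel_succ k)
    haveI hcok : Coh.IsQCoh (cokernel (HomologicalComplex.homologyMap S.g k)) := QCohLib.isQCoh_cokernel _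
    have h' := hS.homology_exact₃ k (k + 1) (rel_succ k)
    let S' : ShortComplex Y.Modules := ShortComplex.mk
      (cokernel.desc (HomologicalComplex.homologyMap S.g k) (hS.δ k (k + 1) (rel_succ k)) (hS.comp_δ k (k + 1) (rel_succ k)))
      (kernel.lift (HomologicalComplex.homologyMap S.g (k + 1)) (HomologicalComplex.homologyMap S.f (k + 1))
        (by rw [← HomologicalComplex.homologyMap_comp, S.zero, HomologicalComplex.homologyMap_zero]))
      (by
        rw [← cancel_epi (cokernel.π _), cokernel.π_desc_assoc, comp_zero, ← cancel_mono (kernel.ι _), Category.assoc,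
          kernel.lift_ι, hS.δ_comp, zero_comp])
    have hS' : S'.ShortExact :=
      { mono_f := h'.mono_cokernelDesc
        epi_g := hex.epi_kernelLift
        exact := by
          let T₁ := ShortComplex.mk (hS.δ k (k + 1) (rel_succ k))
            (HomologicalComplex.homologyMap S.f (k + 1)) (hS.δ_comp k (k + 1) (rel_succ k))
          let T₂ := ShortComplex.mk (hS.δ k (k + 1) (rel_succ k)) S'.g (by
            rw [← cancel_mono (kernel.ι _), Category.assoc, kernel.lift_ι, hS.δ_comp, zero_comp])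
          let φ : T₂ ⟶ T₁ := { τ₁ := 𝟙 _, τ₂ := 𝟙 _, τ₃ := kernel.ι _, comm₁₂ := by simp [T₁, T₂], comm₂₃ := by simp [T₁, T₂, S'] }
          haveI : Epi φ.τ₁ := inferInstanceAs (Epi (𝟙 _))
          haveI : IsIso φ.τ₂ := inferInstanceAs (IsIso (𝟙 _))
          haveI : Mono φ.τ₃ := inferInstanceAs (Mono (kernel.ι _))
          have hT₂ : T₂.Exact := (ShortComplex.exact_iff_of_epi_of_isIso_of_mono φ).2 hδ
          let ψ : T₂ ⟶ S' := { τ₁ := cokernel.π _, τ₂ := 𝟙 _, τ₃ := 𝟙 _, comm₁₂ := by simp [T₂, S'], comm₂₃ := by simp [T₂] }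
          haveI : Epi ψ.τ₁ := inferInstanceAs (Epi (cokernel.π _))
          haveI : IsIso ψ.τ₂ := inferInstanceAs (IsIso (𝟙 _))
          haveI : Mono ψ.τ₃ := inferInstanceAs (Mono (𝟙 _))
          exact (ShortComplex.exact_iff_of_epi_of_isIso_of_mono ψ).1 hT₂ }
    haveI : Coh.IsQCoh S'.X₁ := hcok
    haveI : Coh.IsQCoh S'.X₃ := hker
    exact QCohLib.isQCoh_of_shortExact hS'

omit [QuasiCompact V₁.ι] [QuasiCompact V₂.ι] in
/-- The module computation computes the abelian local cohomology sheaves. -/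
theorem nonempty_toAb_gammaLC_iso {M : Y.Modules} (I : InjectiveResolution M) (n : ℕ) :
    Nonempty (Coh.toAb ((((gammaLC (V₁ := V₁) (V₂ := V₂)).mapHomologicalComplex (ComplexShape.up ℕ)).obj I.cocomplex).homology n) ≅
      (HZshLC (X := Y.carrier) h n).obj (Coh.toAb M)) := by
  let i := ((HomologicalComplex.singleMapHomologicalComplex (QCohLib.toAbF Y) (ComplexShape.up ℕ) 0).inv.app M) ≫
    ((QCohLib.toAbF Y).mapHomologicalComplex _).map I.ι
  have : QuasiIso (((QCohLib.toAbF Y).mapHomologicalComplex (ComplexShape.up ℕ)).map I.ι) := by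
    rw [HomologicalComplex.quasiIso_map_iff_of_preservesHomology]
    exact I.quasiIso
  have : QuasiIso i := by dsimp only [i]; infer_instance
  haveI : PreservesFiniteLimits (sectSuppLC (X := Y.carrier) h) := preservesFiniteLimits_sectSuppLC h
  obtain ⟨e⟩ := RpushLib.nonempty_rightDerived_iso_of_acyclic (sectSuppLC (X := Y.carrier) h) _ i (fun k => by
    rw [SpSeqLib.isSAcyclic_iff]
    intro q hq
    haveI := I.injective k
    exact @isZero_HZshLC_of_isFlasque _ _ _ h ((QCohLib.toAbF Y).obj (I.cocomplex.X k))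
      (RpushLib.isFlasque_toAb_injective (I.cocomplex.X k)) q hq) n
  let C := ((gammaLC (V₁ := V₁) (V₂ := V₂)).mapHomologicalComplex (ComplexShape.up ℕ)).obj I.cocomplex
  exact ⟨((C.sc n).mapHomologyIso (QCohLib.toAbF Y)).symm ≪≫
    ShortComplex.homologyMapIso ((I.cocomplex.sc n).mapNatIso (gammaLCIso h)) ≪≫ e.symm⟩

end LocSuppLib
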