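import Groth.Agent.LocSuppLib.Open
import Mathlib.Topology.Sheaves.Skyscraper

/-! # Sections with supports as a right adjoint of the direct image from the closed complement -/

universe u

set_option linter.style.haveILetI false

open CategoryTheory CategoryTheory.Limits TopologicalSpace Opposite

namespace LocSuppLib

variable {X : TopCat.{u}} (U : Opens X)

local notation "iZ" => CohCx.inclCompl U

/-- The open `W ∪ U` of `X` for an open `W` of `X ∖ U`. -/
noncomputable def extOpen (W : Opens (TopCat.of ((U : Set X)ᶜ : Set X))) : Opens X where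
  carrier := ((Subtype.val : ((U : Set X)ᶜ : Set X) → X) '' (W : Set _)ᶜ)ᶜ
  is_open' := (U.isOpen.isClosed_compl.isClosedEmbedding_subtypeVal.isClosedMap _ W.isOpen.isClosed_compl).isOpen_compl

lemma map_extOpen (W : Opens (TopCat.of ((U : Set X)ᶜ : Set X))) : (Opens.map iZ).obj (extOpen U W) = W := by
  ext z
  refine ⟨fun hz => ?_, fun hz ⟨y, hy, e⟩ => hy ((Subtype.val_injective e) ▸ hz)⟩
  by_contra hW
  exact hz ⟨z, hW, rfl⟩

lemma extOpen_mono {W W' : Opens (TopCat.of ((U : Set X)ᶜ : Set X))} (h : W ≤ W') : extOpen U W ≤ extOpen U W' :=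
  fun _ hx ⟨y, hy, e⟩ => hx ⟨y, fun hy' => hy (h hy'), e⟩

lemma le_extOpen_map (V : Opens X) : V ≤ extOpen U ((Opens.map iZ).obj V) :=
  fun x hx ⟨y, hy, e⟩ => hy (show (y : X) ∈ V by rw [show (y : X) = x from e]; exact hx)

lemma full_push_inclCompl : (CohTop.push iZ).Full where
  map_surjective {G G'} ψ := by
    let e := fun W => (homOfLE (map_extOpen U W).le).op
    let e' := fun W => (homOfLE (map_extOpen U W).ge).op
    refine ⟨⟨{ app := fun W => G.obj.map (e W.unop) ≫ ψ.hom.app (op (extOpen U W.unop)) ≫ G'.obj.map (e' W.unop)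
               naturality := fun W W' f => ?_ }⟩, ?_⟩
    · have hn := ψ.hom.naturality (homOfLE (extOpen_mono U (leOfHom f.unop))).op
      have h₁ : G.obj.map f ≫ G.obj.map (e W'.unop) = G.obj.map (e W.unop) ≫
          G.obj.map ((Opens.map iZ).map (homOfLE (extOpen_mono U (leOfHom f.unop)))).op :=
        (G.obj.map_comp _ _).symm.trans ((congrArg G.obj.map (Subsingleton.elim _ _)).trans (G.obj.map_comp _ _))
      have h₂ : G'.obj.map ((Opens.map iZ).map (homOfLE (extOpen_mono U (leOfHom f.unop)))).op ≫ G'.obj.map (e' W'.unop) =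
          G'.obj.map (e' W.unop) ≫ G'.obj.map f :=
        (G'.obj.map_comp _ _).symm.trans ((congrArg G'.obj.map (Subsingleton.elim _ _)).trans (G'.obj.map_comp _ _))
      refine (reassoc_of% h₁) _ |>.trans ?_
      simp only [Category.assoc]
      refine congrArg (G.obj.map (e W.unop) ≫ ·) ?_
      refine ((reassoc_of% hn) _).trans ?_
      exact congrArg (ψ.hom.app (op (extOpen U W.unop)) ≫ ·) h₂
    · apply Sheaf.hom_ext
      ext1
      funext V
      let l := (homOfLE (le_extOpen_map U V.unop)).op
      have hn := ψ.hom.naturality l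
      let W := (Opens.map iZ).obj V.unop
      have h₁ : ((CohTop.push iZ).obj G).obj.map l = G.obj.map ((Opens.map iZ).map (homOfLE (le_extOpen_map U V.unop))).op := rfl
      have key : G.obj.map (e W) ≫ G.obj.map ((Opens.map iZ).map (homOfLE (le_extOpen_map U V.unop))).op = 𝟙 _ :=
        (G.obj.map_comp _ _).symm.trans ((congrArg G.obj.map (Subsingleton.elim _ (𝟙 _))).trans (G.obj.map_id _))
      have key' : G'.obj.map (e' W) = G'.obj.map ((Opens.map iZ).map (homOfLE (le_extOpen_map U V.unop))).op :=
        congrArg G'.obj.map (Subsingleton.elim _ _)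
      change G.obj.map (e W) ≫ ψ.hom.app (op (extOpen U W)) ≫ G'.obj.map (e' W) = ψ.hom.app V
      rw [key']
      refine (congrArg (G.obj.map (e W) ≫ ·) hn.symm).trans ?_
      exact ((Category.assoc _ _ _).symm.trans (congrArg (· ≫ ψ.hom.app V) key)).trans (Category.id_comp _)

lemma faithful_push_inclCompl : (CohTop.push iZ).Faithful where
  map_injective {G G'} φ φ' h := by
    apply Sheaf.hom_ext
    ext1
    funext W
    have e := congrArg (fun f => f.hom.app (op (extOpen U W.unop))) h
    change φ.hom.app (op ((Opens.map iZ).obj (extOpen U W.unop))) = φ'.hom.app _ at e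
    haveI : IsIso (homOfLE (map_extOpen U W.unop).le) :=
      ⟨homOfLE (map_extOpen U W.unop).ge, Subsingleton.elim _ _, Subsingleton.elim _ _⟩
    apply (cancel_mono (G'.obj.map (homOfLE (map_extOpen U W.unop).le).op)).1
    refine (φ.hom.naturality _).symm.trans (Eq.trans ?_ (φ'.hom.naturality _))
    exact congrArg (_ ≫ ·) e

/-- Supported in the complement of `U`. -/
abbrev IsSupp (N : CohTop.Ab X) : Prop := IsZero ((CohTop.pull (CohCx.incl U)).obj N)

lemma isSupp_push (G : CohTop.Ab (TopCat.of ((U : Set X)ᶜ : Set X))) : IsSupp U ((CohTop.push iZ).obj G) := by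
  refine IsZero.of_iso ?_ ((pullIsoRestr U).app _)
  refine IsZero.of_full_of_faithful_of_isZero (sheafToPresheaf _ _) _ (Functor.isZero _ fun W => ?_)
  refine IsZero.of_iso (IsTerminal.isZero (TopCat.Sheaf.isTerminalOfEmpty G)) (G.obj.mapIso (eqToIso ?_))
  refine congrArg op (eq_bot_iff.2 fun z hz => ?_)
  obtain ⟨y, _, e⟩ := hz
  exact (z.2 ((show (y : X) = (z : X) from e) ▸ y.2)).elim

lemma isSupp_sectSupp (F : CohTop.Ab X) : IsSupp U ((LocCohZ.sectSuppF U).obj F) := by
  let adj := TopCat.Sheaf.pullbackPushforwardAdjunction AddCommGrpCat.{u} (CohCx.incl U)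
  let P := CohTop.pull (CohCx.incl U)
  haveI : Mono (P.map (adj.unit.app F)) := SplitMono.mono ⟨_, adj.left_triangle_components F⟩
  have h0 : P.map (kernel.ι (adj.unit.app F)) = 0 := by
    apply (cancel_mono (P.map (adj.unit.app F))).1
    exact ((Functor.map_comp _ _ _).symm.trans ((congrArg P.map (kernel.condition _)).trans (P.map_zero _ _))).trans zero_comp.symm
  haveI : PreservesFiniteLimits P := inferInstanceAs (PreservesFiniteLimits (CohTop.pull (CohCx.incl U)))
  exact @IsZero.of_mono_eq_zero _ _ _ _ _ (P.map (kernel.ι (adj.unit.app F)))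
    (@Functor.map_mono _ _ _ _ P inferInstance _ _ _ equalizer.ι_mono) h0

lemma isZero_of_isSupp_of_pull (N : CohTop.Ab X) (hN : IsSupp U N)
    (hN' : IsZero ((CohTop.pull iZ).obj N)) : IsZero N := by
  classical
  refine IsZero.of_full_of_faithful_of_isZero (sheafToPresheaf _ _) _ (Functor.isZero _ fun V => ?_)
  have : Subsingleton (N.obj.obj V) := subsingleton_of_forall_eq 0 fun s => by
    apply TopCat.Presheaf.section_ext (show TopCat.Sheaf AddCommGrpCat X from N) V.unop s 0
    intro x hx
    rw [map_zero]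
    have key : IsZero ((TopCat.Presheaf.stalkFunctor AddCommGrpCat.{u} x).obj N.obj) := by
      rw [IsZero.iff_id_eq_zero]
      by_cases hxU : x ∈ U
      · apply ((stalkSkyscraperSheafAdjunction x).homEquiv N _).injective
        let S := skyscraperSheaf x ((TopCat.Presheaf.stalkFunctor AddCommGrpCat.{u} x).obj N.obj)
        let adj := TopCat.Sheaf.pullbackPushforwardAdjunction AddCommGrpCat.{u} (CohCx.incl U)
        let S' := skyscraperSheaf (X := TopCat.of U) ⟨x, hxU⟩ ((TopCat.Presheaf.stalkFunctor AddCommGrpCat.{u} x).obj N.obj)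
        have h : ∀ f g : N ⟶ (CohTop.push (CohCx.incl U)).obj S', f = g := fun f g =>
          (adj.homEquiv N S').symm.injective (hN.eq_of_src _ _)
        exact h _ _
      · apply ((stalkSkyscraperSheafAdjunction x).homEquiv N _).injective
        let adj := TopCat.Sheaf.pullbackPushforwardAdjunction AddCommGrpCat.{u} iZ
        let S' := skyscraperSheaf (X := TopCat.of ((U : Set X)ᶜ : Set X)) ⟨x, hxU⟩
          ((TopCat.Presheaf.stalkFunctor AddCommGrpCat.{u} x).obj N.obj)
        have h : ∀ f g : N ⟶ (CohTop.push iZ).obj S', f = g := fun f g =>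
          (adj.homEquiv N S').symm.injective (hN'.eq_of_src _ _)
        exact h _ _
    exact @Subsingleton.elim _ (AddCommGrpCat.subsingleton_of_isZero key) _ _
  exact @AddCommGrpCat.isZero_of_subsingleton _ this

lemma isIso_unit_of_isSupp (K : CohTop.Ab X) (hK : IsSupp U K) :
    IsIso ((TopCat.Sheaf.pullbackPushforwardAdjunction AddCommGrpCat.{u} iZ).unit.app K) := by
  let adj := TopCat.Sheaf.pullbackPushforwardAdjunction AddCommGrpCat.{u} iZ
  haveI := full_push_inclCompl U
  haveI := faithful_push_inclCompl U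
  let η := adj.unit.app K
  haveI : (TopCat.Sheaf.pushforward AddCommGrpCat.{u} iZ).Full := full_push_inclCompl U
  haveI : (TopCat.Sheaf.pushforward AddCommGrpCat.{u} iZ).Faithful := faithful_push_inclCompl U
  haveI : IsIso ((CohTop.pull iZ).map η) := by
    haveI : IsIso adj.counit := adj.counit_isIso_of_R_fully_faithful
    haveI h1 : IsIso (adj.counit.app ((CohTop.pull iZ).obj K)) := inferInstance
    exact @IsIso.of_isIso_comp_right _ _ _ _ _ _ (adj.counit.app ((CohTop.pull iZ).obj K)) h1
      ((adj.left_triangle_components K).symm ▸ inferInstanceAs (IsIso (𝟙 _)))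
  haveI : PreservesFiniteLimits (CohTop.pull iZ) := CohTopLib.preservesFiniteLimits_pull _
  haveI : PreservesFiniteColimits (CohTop.pull iZ) :=
    haveI : PreservesColimitsOfSize.{0, 0} (CohTop.pull iZ) := adj.leftAdjoint_preservesColimits
    PreservesColimitsOfSize.preservesFiniteColimits _
  haveI : (CohTop.pull iZ).Additive := Functor.additive_of_preserves_binary_products _
  haveI : Mono η := Preadditive.mono_of_isZero_kernel η (isZero_of_isSupp_of_pull U _
    (@IsZero.of_mono _ _ _ _ _ ((CohTop.pull (CohCx.incl U)).map (kernel.ι η)) (@Functor.map_mono _ _ _ _ _ inferInstance _ _ _ equalizer.ι_mono) hK)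
    ((isZero_kernel_of_mono ((CohTop.pull iZ).map η)).of_iso (PreservesKernel.iso (CohTop.pull iZ) η)))
  haveI : Epi η := Preadditive.epi_of_isZero_cokernel η (isZero_of_isSupp_of_pull U _
    (@IsZero.of_epi _ _ _ _ _ ((CohTop.pull (CohCx.incl U)).map (cokernel.π η)) (@Functor.map_epi _ _ _ _ _ inferInstance _ _ _ coequalizer.π_epi) (isSupp_push U _))
    ((isZero_cokernel_of_epi ((CohTop.pull iZ).map η)).of_iso (PreservesCokernel.iso (CohTop.pull iZ) η)))
  exact isIso_of_mono_of_epi η

/-- The counit `i_* i^! F ⟶ F`. -/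
noncomputable def suppCounit (F : CohTop.Ab X) :
    (CohTop.push iZ).obj ((CohTop.pull iZ).obj ((LocCohZ.sectSuppF U).obj F)) ⟶ F :=
  @inv _ _ _ _ _ (isIso_unit_of_isSupp U _ (isSupp_sectSupp U F)) ≫ (suppι U).app F

lemma bijective_suppCounit (G : CohTop.Ab (TopCat.of ((U : Set X)ᶜ : Set X))) (F : CohTop.Ab X) :
    Function.Bijective (fun g : G ⟶ (CohTop.pull iZ).obj ((LocCohZ.sectSuppF U).obj F) =>
      (CohTop.push iZ).map g ≫ suppCounit U F) := by
  haveI := full_push_inclCompl U
  haveI := faithful_push_inclCompl U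
  haveI := isIso_unit_of_isSupp U _ (isSupp_sectSupp U F)
  haveI : Mono ((suppι U).app F) := equalizer.ι_mono
  refine ⟨fun g g' h => (CohTop.push iZ).map_injective ?_, fun f => ?_⟩
  · haveI : Mono (suppCounit U F) := @mono_comp _ _ _ _ _ _ inferInstance _ ‹Mono ((suppι U).app F)›
    exact (cancel_mono (suppCounit U F)).1 h
  · let adj := TopCat.Sheaf.pullbackPushforwardAdjunction AddCommGrpCat.{u} (CohCx.incl U)
    have hf : f ≫ adj.unit.app F = 0 :=
      (adj.homEquiv _ _).symm.injective ((isSupp_push U G).eq_of_src _ _)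
    obtain ⟨g, hg⟩ := (CohTop.push iZ).map_surjective (kernel.lift _ f hf ≫
      (TopCat.Sheaf.pullbackPushforwardAdjunction AddCommGrpCat.{u} iZ).unit.app ((LocCohZ.sectSuppF U).obj F))
    refine ⟨g, ?_⟩
    change (CohTop.push iZ).map g ≫ suppCounit U F = f
    exact (congrArg (· ≫ suppCounit U F) hg).trans ((Category.assoc _ _ _).trans
      ((congrArg (_ ≫ ·) (@IsIso.hom_inv_id_assoc _ _ _ _ _ (isIso_unit_of_isSupp U _ (isSupp_sectSupp U F)) _ _)).trans (kernel.lift_ι (C := CohTop.Ab X) (((TopCat.Sheaf.pullbackPushforwardAdjunction AddCommGrpCat.{u} (CohCx.incl U)).unit.app F)) f hf)))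

/-- `i_* ⊣ i^* Γ_Z`. -/
noncomputable def pushSuppAdj : CohTop.push iZ ⊣ LocCohZ.sectSuppF U ⋙ CohTop.pull iZ :=
  Adjunction.mkOfHomEquiv
    { homEquiv := fun G F => (Equiv.ofBijective _ (bijective_suppCounit U G F)).symm
      homEquiv_naturality_left_symm := fun f g => by
        change (CohTop.push iZ).map (f ≫ g) ≫ _ = (CohTop.push iZ).map f ≫ (CohTop.push iZ).map g ≫ _
        rw [Functor.map_comp, Category.assoc]
      homEquiv_naturality_right := fun {G F F'} f g => by
        apply (bijective_suppCounit U G F').1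
        refine ((Equiv.ofBijective _ (bijective_suppCounit U G F')).apply_symm_apply (f ≫ g)).trans ?_
        have hf : (CohTop.push iZ).map ((Equiv.ofBijective _ (bijective_suppCounit U G F)).symm f) ≫ suppCounit U F = f :=
          (Equiv.ofBijective _ (bijective_suppCounit U G F)).apply_symm_apply f
        haveI := isIso_unit_of_isSupp U _ (isSupp_sectSupp U F)
        haveI := isIso_unit_of_isSupp U _ (isSupp_sectSupp U F')
        have hε : (CohTop.push iZ).map ((CohTop.pull iZ).map ((LocCohZ.sectSuppF U).map g)) ≫ suppCounit U F' =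
            suppCounit U F ≫ g := by
          rw [suppCounit, suppCounit, Category.assoc, IsIso.eq_inv_comp]
          refine ((reassoc_of% ((TopCat.Sheaf.pullbackPushforwardAdjunction AddCommGrpCat.{u} iZ).unit.naturality
            ((LocCohZ.sectSuppF U).map g)).symm) _).trans ?_
          refine Eq.trans ?_ ((suppι U).naturality g)
          exact congrArg (_ ≫ ·) (IsIso.hom_inv_id_assoc _ _)
        refine (congrArg (· ≫ g) hf.symm).trans ?_
        change _ = (CohTop.push iZ).map (_ ≫ (CohTop.pull iZ).map ((LocCohZ.sectSuppF U).map g)) ≫ _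
        rw [Functor.map_comp, Category.assoc, Category.assoc, hε] }

end LocSuppLib
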