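import Groth.Agent.LocSuppLib.Misc

/-! # Natural excision -/

universe u

set_option linter.style.haveILetI false

open CategoryTheory CategoryTheory.Limits Opposite TopologicalSpace CategoryTheory.Abelian

namespace LocSuppLib

set_option maxHeartbeats 600000

/-- `Hom(P, -)` derived is `Ext(P, -)`. -/
noncomputable def coyonedaDerivedIso {A : Type (u + 1)} [Category.{u} A] [Abelian A] [HasExt.{u} A]
    [HasInjectiveResolutions A] (P : A) (q : ℕ) :
    (preadditiveCoyoneda.obj (op P)).rightDerived q ≅ (extFunctor.{u} q).obj (op P) :=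
  let Z : Discrete PUnit.{u + 1} ⥤ A := (Functor.const _).obj P
  let e : preadditiveCoyoneda.obj (op P) ≅
      homPre Z ⋙ (evaluation (Discrete PUnit.{u + 1})ᵒᵖ AddCommGrpCat.{u}).obj (op ⟨PUnit.unit⟩) :=
    NatIso.ofComponents (fun _ => Iso.refl _) (fun f => (Category.comp_id _).trans (Category.id_comp _).symm)
  ({ hom := NatTrans.rightDerived e.hom q
     inv := NatTrans.rightDerived e.inv q
     hom_inv_id := by rw [← NatTrans.rightDerived_comp, e.hom_inv_id, NatTrans.rightDerived_id]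
     inv_hom_id := by rw [← NatTrans.rightDerived_comp, e.inv_hom_id, NatTrans.rightDerived_id] } :
      (preadditiveCoyoneda.obj (op P)).rightDerived q ≅ _) ≪≫ rightDerivedHomIso Z (op ⟨PUnit.unit⟩) q

/-- A natural isomorphism of `Ext` functors on objects. -/
noncomputable def extEquivApp {A B : Type (u + 1)} [Category.{u} A] [Abelian A] [HasExt.{u} A] [Category.{u} B]
    [Abelian B] [HasExt.{u} B] {F : A ⥤ B} {P : A} {Q : B} {i : ℕ}
    (N : extFunctorObj P i ≅ F ⋙ extFunctorObj Q i) (M : A) : Ext.{u} P M i ≃+ Ext.{u} Q (F.obj M) i where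
  toFun x := N.hom.app M x
  invFun x := N.inv.app M x
  left_inv x := by
    have h : (N.hom.app M ≫ N.inv.app M) x = x := by rw [Iso.hom_inv_id_app]; rfl
    exact h
  right_inv x := by
    have h : (N.inv.app M ≫ N.hom.app M) x = x := by rw [Iso.inv_hom_id_app]; rfl
    exact h
  map_add' := map_add (N.hom.app M).hom

theorem extEquivApp_naturality {A B : Type (u + 1)} [Category.{u} A] [Abelian A] [HasExt.{u} A] [Category.{u} B]
    [Abelian B] [HasExt.{u} B] {F : A ⥤ B} {P : A} {Q : B} {i : ℕ}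
    (N : extFunctorObj P i ≅ F ⋙ extFunctorObj Q i) {M M' : A} (φ : M ⟶ M') (x : Ext.{u} P M i) :
    extEquivApp N M' ((Ext.mk₀ φ).postcomp P (add_zero i) x) =
      (Ext.mk₀ (F.map φ)).postcomp Q (add_zero i) (extEquivApp N M x) :=
  NatTrans.naturality_apply N.hom φ (show (extFunctorObj P i).obj M from x)

theorem exists_ext_equiv_of_natIso {A B : Type (u + 1)} [Category.{u} A] [Abelian A] [HasExt.{u} A]
    [HasInjectiveResolutions A] [Category.{u} B] [Abelian B] [HasExt.{u} B] [HasInjectiveResolutions B]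
    (F : A ⥤ B) [F.Additive] [F.PreservesHomology] [F.PreservesInjectiveObjects] (P : A) (Q : B)
    (ν : preadditiveCoyoneda.obj (op P) ≅ F ⋙ preadditiveCoyoneda.obj (op Q)) (i : ℕ) :
    ∃ e : ∀ M : A, Ext.{u} P M i ≃+ Ext.{u} Q (F.obj M) i, ∀ (M M' : A) (φ : M ⟶ M') (x : Ext.{u} P M i),
      e M' ((Ext.mk₀ φ).postcomp P (add_zero i) x) = (Ext.mk₀ (F.map φ)).postcomp Q (add_zero i) (e M x) := by
  obtain ⟨N⟩ : Nonempty (extFunctorObj P i ≅ F ⋙ extFunctorObj Q i) := ⟨
    (coyonedaDerivedIso P i).symm ≪≫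
      ({ hom := NatTrans.rightDerived ν.hom i
         inv := NatTrans.rightDerived ν.inv i
         hom_inv_id := by rw [← NatTrans.rightDerived_comp, ν.hom_inv_id, NatTrans.rightDerived_id]
         inv_hom_id := by rw [← NatTrans.rightDerived_comp, ν.inv_hom_id, NatTrans.rightDerived_id] } :
        (preadditiveCoyoneda.obj (op P)).rightDerived i ≅ _) ≪≫
      compIso F (preadditiveCoyoneda.obj (op Q)) i ≪≫
      Functor.isoWhiskerLeft _ (coyonedaDerivedIso Q i)⟩
  exact ⟨extEquivApp N, fun M M' φ x => extEquivApp_naturality N φ x⟩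

variable {X : TopCat.{u}} {W V : Opens X} (h : W ≤ V)

/-- `ℤ_V/ℤ_{W ∩ V} ≅ ℤ_V/ℤ_W`. -/
noncomputable def zqInfIso : LocCohZ.zq (inf_le_right : W ⊓ V ≤ V) ≅ LocCohZ.zq h where
  hom := LocCohZ.zqMap h (inf_le_right : W ⊓ V ≤ V) inf_le_left le_rfl
  inv := LocCohZ.zqMap (inf_le_right : W ⊓ V ≤ V) h (le_inf le_rfl h) le_rfl
  hom_inv_id := (SuppFam.zqMap_comp _ _ _ _ _ _ _).trans (SuppFam.zqMap_id _)
  inv_hom_id := (SuppFam.zqMap_comp _ _ _ _ _ _ _).trans (SuppFam.zqMap_id _)

/-- Excision for maps. -/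
noncomputable def zqRestrHom (G : CohTop.Ab X) :
    (LocCohZ.zq h ⟶ G) ≃+
      (LocCohZ.zq (X := TopCat.of V) (le_top : SuppFam.inOpen V W ≤ ⊤) ⟶ (CohTop.restrFunctor V).obj G) :=
  ((((preadditiveYoneda.obj G).mapIso (zqInfIso h).op).addCommGroupIsoToAddEquiv.trans
    (CohLib.zqHom G _)).trans (sectZRestr W G V)).trans (CohLib.zqHom _ _).symm

lemma zqHom_zqRestrHom (G : CohTop.Ab X) (x : LocCohZ.zq h ⟶ G) :
    CohLib.zqHom _ (le_top : SuppFam.inOpen V W ≤ ⊤) (zqRestrHom h G x) =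
      sectZRestr W G V (CohLib.zqHom G _ ((zqInfIso h).hom ≫ x)) :=
  AddEquiv.apply_symm_apply _ _

lemma sectZRestr_coe (G : CohTop.Ab X) (s : LocCohZ.sectZ G (inf_le_right : W ⊓ V ≤ V)) :
    (sectZRestr W G V s).1 = G.obj.map (homOfLE (img_top' V).le).op s.1 := rfl

lemma zqRestrHom_comp {G G' : CohTop.Ab X} (φ : G ⟶ G') (x : LocCohZ.zq h ⟶ G) :
    zqRestrHom h G' (x ≫ φ) = zqRestrHom h G x ≫ (CohTop.restrFunctor V).map φ := by
  apply (CohLib.zqHom ((CohTop.restrFunctor V).obj G') (le_top : SuppFam.inOpen V W ≤ ⊤)).injective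
  apply Subtype.ext
  rw [CohLib.zqHom_comp, zqHom_zqRestrHom, zqHom_zqRestrHom, sectZRestr_coe, sectZRestr_coe, ← Category.assoc,
    CohLib.zqHom_comp]
  exact (NatTrans.naturality_apply φ.hom _ _).symm

/-- A natural family of bijections on maps as a natural isomorphism. -/
noncomputable def coyonedaIsoOfEquiv {C D : Type*} [Category.{u} C] [Category.{u} D] [Preadditive C]
    [Preadditive D] (F : C ⥤ D) (P : C) (Q : D) (e : ∀ G, (P ⟶ G) ≃+ (Q ⟶ F.obj G))
    (he : ∀ {G G' : C} (φ : G ⟶ G') (x : P ⟶ G), e G' (x ≫ φ) = e G x ≫ F.map φ) :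
    preadditiveCoyoneda.obj (op P) ≅ F ⋙ preadditiveCoyoneda.obj (op Q) :=
  NatIso.ofComponents (fun G => (e G).toAddCommGrpIso) (fun φ => by
    ext x
    exact he φ x)

/-- Excision as a natural isomorphism. -/
noncomputable def restrNatIso : preadditiveCoyoneda.obj (op (LocCohZ.zq h)) ≅
    CohTop.restrFunctor V ⋙
      preadditiveCoyoneda.obj (op (LocCohZ.zq (X := TopCat.of V) (le_top : SuppFam.inOpen V W ≤ ⊤))) :=
  coyonedaIsoOfEquiv (CohTop.restrFunctor V) (LocCohZ.zq h) _ (fun G => zqRestrHom h G)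
    (fun φ x => zqRestrHom_comp h φ x)

theorem exists_excision (i : ℕ) :
    ∃ e : ∀ F : CohTop.Ab X,
        LocCohZ.HZ F i h ≃+ LocCohZ.HZc (CohTop.restr F V) i (SuppFam.inOpen V W),
      ∀ (F G : CohTop.Ab X) (φ : F ⟶ G) (x : LocCohZ.HZ F i h),
        e G (LocCohZ.map φ i h x) =
          LocCohZ.map ((CohTop.restrFunctor V).map φ) i (le_top : SuppFam.inOpen V W ≤ ⊤) (e F x) := by
  haveI : (CohTop.restrFunctor V).Additive := Functor.additive_of_iso (pullIsoRestr V)
  haveI : PreservesFiniteLimits (CohTop.restrFunctor V) := preservesFiniteLimits_of_natIso (pullIsoRestr V)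
  haveI : PreservesFiniteColimits (CohTop.restrFunctor V) :=
    ⟨fun J _ _ => preservesColimitsOfShape_of_natIso (pullIsoRestr V)⟩
  haveI : (CohTop.restrFunctor V).PreservesHomology := Functor.preservesHomologyOfExact _
  haveI : (CohTop.restrFunctor V).PreservesInjectiveObjects := ⟨fun {I} hI => @injective_restr _ V I hI⟩
  exact exists_ext_equiv_of_natIso (CohTop.restrFunctor V) (LocCohZ.zq h) _ (restrNatIso h) i

end LocSuppLib
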