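import Groth.Agent.CohLib.Leray
import Mathlib.CategoryTheory.Abelian.Injective.Ext
import Mathlib.CategoryTheory.Preadditive.Yoneda.Limits
import Mathlib.CategoryTheory.Abelian.FunctorCategory

/-! # Presheaves `U ↦ Ext^q(Z U, M)` as derived functors of `U ↦ Hom(Z U, M)` -/

universe w v v' u u'

set_option linter.style.haveILetI false
set_option linter.unusedSectionVars false

open CategoryTheory CategoryTheory.Limits Opposite CategoryTheory.Abelian

namespace LocSuppLib

variable {A : Type u} [Category.{w} A] [Abelian A] [HasExt.{w} A] {D : Type u'} [Category.{v'} D]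
  (Z : D ⥤ A)

/-- `F ↦ (U ↦ Hom(Z U, F))`. -/
noncomputable abbrev homPre : A ⥤ (Dᵒᵖ ⥤ AddCommGrpCat.{w}) :=
  preadditiveYoneda ⋙ (Functor.whiskeringLeft Dᵒᵖ Aᵒᵖ AddCommGrpCat.{w}).obj Z.op

instance : (homPre Z).Additive where
  map_add {_ _ _ _} := by
    ext U x
    exact Preadditive.comp_add _ _ _ _ _ _

/-- `U ↦ Ext^q(Z U, M)`. -/
noncomputable abbrev extPre (M : A) (q : ℕ) : Dᵒᵖ ⥤ AddCommGrpCat.{w} :=
  Z.op ⋙ (extFunctor.{w} q).flip.obj M

variable {M : A} (R : InjectiveResolution M)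

/-- The complex of presheaves `U ↦ Hom(Z U, R)`. -/
noncomputable abbrev homCx : CochainComplex (Dᵒᵖ ⥤ AddCommGrpCat.{w}) ℕ :=
  ((homPre Z).mapHomologicalComplex _).obj R.cocomplex

lemma hom_cycle_cond (q : ℕ) (U : Dᵒᵖ) (x : ((homCx Z R).cycles q).obj U) :
    (show Z.obj U.unop ⟶ R.cocomplex.X q from ((homCx Z R).iCycles q).app U x) ≫
      R.cocomplex.d q (q + 1) = 0 :=
  ConcreteCategory.congr_hom (NatTrans.congr_app ((homCx Z R).iCycles_d q (q + 1)) U) x

/-- The class of a cycle. -/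
noncomputable def homClass (q : ℕ) : (homCx Z R).cycles q ⟶ extPre Z M q where
  app U := AddCommGrpCat.ofHom (AddMonoidHom.mk' (fun x =>
      R.extMk (show Z.obj U.unop ⟶ R.cocomplex.X q from ((homCx Z R).iCycles q).app U x) (q + 1) rfl
        (hom_cycle_cond Z R q U x)) (fun x y => by
    rw [InjectiveResolution.add_extMk]
    congr 1
    exact map_add (((homCx Z R).iCycles q).app U).hom x y))
  naturality U V f := by
    ext x
    refine Eq.trans ?_ (R.mk₀_comp_extMk _ (q + 1) rfl (hom_cycle_cond Z R q U x) (Z.map f.unop)).symm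
    change R.extMk _ (q + 1) rfl (hom_cycle_cond Z R q V (((homCx Z R).cycles q).map f x)) = _
    congr 1
    exact ConcreteCategory.congr_hom (((homCx Z R).iCycles q).naturality f) x

lemma homClass_apply_eq_zero_iff (q : ℕ) (U : Dᵒᵖ) (x : ((homCx Z R).cycles q).obj U) :
    (homClass Z R q).app U x = 0 ↔
      ∃ y, ((homCx Z R).toCycles ((ComplexShape.up ℕ).prev q) q).app U y = x := by
  have hinj := (AddCommGrpCat.mono_iff_injective (((homCx Z R).iCycles q).app U)).1 inferInstance
  change R.extMk _ (q + 1) rfl (hom_cycle_cond Z R q U x) = 0 ↔ _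
  cases q with
  | zero =>
    rw [CohLib.extMkInj_eq_zero_iff₀]
    constructor
    · intro h
      exact ⟨0, hinj ((congrArg (((homCx Z R).iCycles 0).app U) (map_zero _)).trans
        ((map_zero _).trans h.symm))⟩
    · rintro ⟨y, rfl⟩
      have h := ConcreteCategory.congr_hom
        (NatTrans.congr_app ((homCx Z R).toCycles_i ((ComplexShape.up ℕ).prev 0) 0) U) y
      refine h.trans ?_
      rw [(homCx Z R).shape _ _ (by simp)]
      rfl
  | succ p =>
    have hp : (ComplexShape.up ℕ).prev (p + 1) = p := by simp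
    rw [R.extMk_eq_zero_iff _ _ _ _ p rfl, hp]
    constructor
    · rintro ⟨g, hg⟩
      exact ⟨g, hinj ((ConcreteCategory.congr_hom
        (NatTrans.congr_app ((homCx Z R).toCycles_i p (p + 1)) U) g).trans hg)⟩
    · rintro ⟨y, rfl⟩
      exact ⟨y, (ConcreteCategory.congr_hom
        (NatTrans.congr_app ((homCx Z R).toCycles_i p (p + 1)) U) y).symm⟩

lemma surjective_homClass (q : ℕ) (U : Dᵒᵖ) : Function.Surjective ((homClass Z R q).app U) := by
  intro α
  obtain ⟨f, hf, rfl⟩ := R.extMk_surjective α (q + 1) rfl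
  let ev := (evaluation Dᵒᵖ AddCommGrpCat.{w}).obj U
  let S : ShortComplex (Dᵒᵖ ⥤ AddCommGrpCat.{w}) := ShortComplex.mk _ _ ((homCx Z R).iCycles_d q (q + 1))
  have hS : (S.map ev).Exact :=
    (ShortComplex.exact_of_f_is_kernel S ((homCx Z R).cyclesIsKernel q (q + 1) (by simp))).map ev
  obtain ⟨x, hx⟩ := (ShortComplex.ab_exact_iff _).1 hS f hf
  refine ⟨x, ?_⟩
  change R.extMk _ (q + 1) rfl (hom_cycle_cond Z R q U x) = R.extMk f (q + 1) rfl hf
  congr 1

/-- The homology presheaves of `Hom(Z -, R)` are the presheaves `Ext^q(Z -, M)`. -/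
theorem nonempty_homCx_homology_iso (q : ℕ) : Nonempty ((homCx Z R).homology q ≅ extPre Z M q) := by
  let i := (ComplexShape.up ℕ).prev q
  have zero : (homCx Z R).toCycles i q ≫ homClass Z R q = 0 := by
    ext U x
    exact (homClass_apply_eq_zero_iff Z R q U _).2 ⟨x, rfl⟩
  let S : ShortComplex (Dᵒᵖ ⥤ AddCommGrpCat.{w}) := ShortComplex.mk _ _ zero
  haveI : ∀ U, Epi ((homClass Z R q).app U) := fun U =>
    (AddCommGrpCat.epi_iff_surjective _).2 (surjective_homClass Z R q U)
  haveI : Epi S.g := NatTrans.epi_of_epi_app _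
  have hS : S.Exact := by
    rw [ShortComplex.exact_iff_isZero_homology, Functor.isZero_iff]
    intro U
    have : (S.map ((evaluation Dᵒᵖ AddCommGrpCat.{w}).obj U)).Exact :=
      (ShortComplex.ab_exact_iff _).2 fun x hx => (homClass_apply_eq_zero_iff Z R q U x).1 hx
    exact ((ShortComplex.exact_iff_isZero_homology _).1 this).of_iso
      (S.mapHomologyIso ((evaluation Dᵒᵖ AddCommGrpCat.{w}).obj U)).symm
  exact ⟨IsColimit.coconePointUniqueUpToIso ((homCx Z R).homologyIsCokernel i q rfl) hS.gIsCokernel⟩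

end LocSuppLib
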