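import Groth.Agent.LocSuppLib.HomPresheaf
import Groth.Agent.DerLib.KInjUse
import Groth.Agent.CohLib.CohPresheaf
import Groth.Prelude.Def_CohCx
import Mathlib.Algebra.Homology.HomotopyCategory.HomComplexSingle
import Mathlib.Algebra.Homology.DerivedCategory.SingleTriangle

/-! # Homs into a K-injective complex in the derived category, as presheaves -/

universe w v' u u'

set_option linter.style.haveILetI false
set_option linter.unusedSectionVars false

open CategoryTheory CategoryTheory.Limits Opposite CochainComplex.HomComplex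
open Groth.Agent.DerLib

namespace LocSuppLib

variable {A : Type u} [Category.{w} A] [Abelian A] [HasExt.{w} A] [HasDerivedCategory.{w} A]
  {D : Type u'} [Category.{v'} D] (Z : D ⥤ A)

/-- `U ↦ Hom_D(Z U, K⟦n⟧)`. -/
noncomputable abbrev derPre (K : DerivedCategory A) (n : ℤ) : Dᵒᵖ ⥤ AddCommGrpCat.{w} :=
  (Z ⋙ DerivedCategory.singleFunctor A 0).op ⋙
    preadditiveYoneda.obj ((shiftFunctor (DerivedCategory A) n).obj K)

variable (I : CochainComplex A ℤ)

/-- The complex of presheaves `U ↦ Hom(Z U, I)`. -/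
noncomputable abbrev homCxZ : CochainComplex (Dᵒᵖ ⥤ AddCommGrpCat.{w}) ℤ :=
  ((homPre Z).mapHomologicalComplex _).obj I

lemma homZ_cycle_cond (n : ℤ) (U : Dᵒᵖ) (x : ((homCxZ Z I).cycles n).obj U) :
    (show Z.obj U.unop ⟶ I.X n from ((homCxZ Z I).iCycles n).app U x) ≫ I.d n (n + 1) = 0 :=
  ConcreteCategory.congr_hom (NatTrans.congr_app ((homCxZ Z I).iCycles_d n (n + 1)) U) x

/-- The map in the derived category of a cocycle. -/
noncomputable def derCls {P : A} (n : ℤ) (a : P ⟶ I.X n) (h : a ≫ I.d n (n + 1) = 0) :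
    (DerivedCategory.singleFunctor A 0).obj P ⟶
      (shiftFunctor (DerivedCategory A) n).obj (DerivedCategory.Q.obj I) :=
  DerivedCategory.Q.map (Cocycle.equivHomShift.symm (Cocycle.fromSingleMk a (zero_add n) (n + 1) rfl h)) ≫
    (DerivedCategory.Q.commShiftIso n).hom.app I

lemma derCls_precomp {P P' : A} (g : P' ⟶ P) (n : ℤ) (a : P ⟶ I.X n) (h : a ≫ I.d n (n + 1) = 0) :
    derCls I n (g ≫ a) (by rw [Category.assoc, h, comp_zero]) =
      (DerivedCategory.singleFunctor A 0).map g ≫ derCls I n a h := by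
  rw [derCls, Cocycle.fromSingleMk_precomp g a (zero_add n) (n + 1) rfl h]
  exact (congrArg (fun t => DerivedCategory.Q.map t ≫ _) (Cocycle.equivHomShift_symm_precomp _ _)).trans
    ((congrArg (· ≫ _) (DerivedCategory.Q.map_comp _ _)).trans (Category.assoc _ _ _))

lemma derCls_add {P : A} (n : ℤ) (a b : P ⟶ I.X n) (h : a ≫ I.d n (n + 1) = 0) (h' : b ≫ I.d n (n + 1) = 0) :
    derCls I n (a + b) (by rw [Preadditive.add_comp, h, h', add_zero]) = derCls I n a h + derCls I n b h' := by
  rw [derCls, derCls, derCls, Cocycle.fromSingleMk_add a b (zero_add n) (n + 1) rfl h h']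
  exact (congrArg (fun t => DerivedCategory.Q.map t ≫ _) (AddEquiv.map_add _ _ _)).trans
    ((congrArg (· ≫ _) (Functor.map_add (F := DerivedCategory.Q))).trans (Preadditive.add_comp _ _ _ _ _ _))

variable [I.IsKInjective]

lemma derCls_eq_zero_iff {P : A} (n : ℤ) (a : P ⟶ I.X n) (h : a ≫ I.d n (n + 1) = 0) :
    derCls I n a h = 0 ↔ ∃ b : P ⟶ I.X (n - 1), b ≫ I.d (n - 1) n = a := by
  rw [← Cocycle.fromSingleMk_mem_coboundaries_iff a (zero_add n) (n + 1) rfl h (n - 1) (sub_add_cancel n 1),
    ← CohomologyClass.toHom_mk_eq_zero_iff, CohomologyClass.toHom_mk, derCls, Preadditive.IsIso.comp_right_eq_zero]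
  exact ⟨fun hh => KInjUse.quotient_eq_zero_of_Q hh, fun hh => KInjUse.Q_map_zero_of_quotient hh⟩

lemma derCls_surjective {P : A} (n : ℤ) (g : (DerivedCategory.singleFunctor A 0).obj P ⟶
    (shiftFunctor (DerivedCategory A) n).obj (DerivedCategory.Q.obj I)) :
    ∃ a h, derCls I n a h = g := by
  obtain ⟨f, hf⟩ := KInjUse.Q_map_surjective ((CochainComplex.singleFunctor A 0).obj P) (I⟦n⟧)
    (g ≫ (DerivedCategory.Q.commShiftIso n).inv.app I)
  obtain ⟨a, h, ha⟩ := Cocycle.fromSingleMk_surjective (Cocycle.equivHomShift f) n (zero_add n) (n + 1) rfl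
  refine ⟨a, h, ?_⟩
  rw [derCls, ha]
  refine (congrArg (· ≫ _) ((congrArg DerivedCategory.Q.map (AddEquiv.symm_apply_apply _ f)).trans hf)).trans ?_
  exact (Category.assoc _ _ _).trans ((congrArg (g ≫ ·) (Iso.inv_hom_id_app (DerivedCategory.Q.commShiftIso n) I)).trans (Category.comp_id _))

/-- The class of a cycle. -/
noncomputable def homZClass (n : ℤ) :
    (homCxZ Z I).cycles n ⟶ derPre Z (DerivedCategory.Q.obj I) n where
  app U := AddCommGrpCat.ofHom (AddMonoidHom.mk'
    (fun x => derCls I n (show Z.obj U.unop ⟶ I.X n from ((homCxZ Z I).iCycles n).app U x)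
      (homZ_cycle_cond Z I n U x)) (fun x y => by
    refine Eq.trans ?_ (derCls_add I n _ _ _ _)
    congr 1
    exact map_add (((homCxZ Z I).iCycles n).app U).hom x y))
  naturality U V f := by
    ext x
    refine Eq.trans ?_ (derCls_precomp I (Z.map f.unop) n _ (homZ_cycle_cond Z I n U x))
    change derCls I n _ (homZ_cycle_cond Z I n V (((homCxZ Z I).cycles n).map f x)) = _
    congr 1
    exact ConcreteCategory.congr_hom (((homCxZ Z I).iCycles n).naturality f) x

lemma homZClass_apply_eq_zero_iff (n : ℤ) (U : Dᵒᵖ) (x : ((homCxZ Z I).cycles n).obj U) :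
    (homZClass Z I n).app U x = 0 ↔ ∃ y, ((homCxZ Z I).toCycles (n - 1) n).app U y = x := by
  have hinj := (AddCommGrpCat.mono_iff_injective (((homCxZ Z I).iCycles n).app U)).1 inferInstance
  refine (derCls_eq_zero_iff I n _ (homZ_cycle_cond Z I n U x)).trans ⟨?_, ?_⟩
  · rintro ⟨b, hb⟩
    exact ⟨b, hinj ((ConcreteCategory.congr_hom (NatTrans.congr_app ((homCxZ Z I).toCycles_i (n - 1) n) U) b).trans hb)⟩
  · rintro ⟨y, rfl⟩
    exact ⟨y, (ConcreteCategory.congr_hom (NatTrans.congr_app ((homCxZ Z I).toCycles_i (n - 1) n) U) y).symm⟩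

lemma homZClass_surjective (n : ℤ) (U : Dᵒᵖ) : Function.Surjective ((homZClass Z I n).app U) := by
  intro g
  obtain ⟨a, h, rfl⟩ := derCls_surjective I n g
  let ev := (evaluation Dᵒᵖ AddCommGrpCat.{w}).obj U
  let S : ShortComplex (Dᵒᵖ ⥤ AddCommGrpCat.{w}) := ShortComplex.mk _ _ ((homCxZ Z I).iCycles_d n (n + 1))
  have hS : (S.map ev).Exact :=
    (ShortComplex.exact_of_f_is_kernel S ((homCxZ Z I).cyclesIsKernel n (n + 1) (by simp))).map ev
  obtain ⟨x, hx⟩ := (ShortComplex.ab_exact_iff _).1 hS a h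
  refine ⟨x, ?_⟩
  change derCls I n _ (homZ_cycle_cond Z I n U x) = derCls I n a h
  congr 1

/-- The homology presheaves of `Hom(Z -, I)` are the presheaves of homs in the derived category. -/
theorem nonempty_homCxZ_homology_iso (n : ℤ) :
    Nonempty ((homCxZ Z I).homology n ≅ derPre Z (DerivedCategory.Q.obj I) n) := by
  have zero : (homCxZ Z I).toCycles (n - 1) n ≫ homZClass Z I n = 0 := by
    ext U x
    exact (homZClass_apply_eq_zero_iff Z I n U _).2 ⟨x, rfl⟩
  let S : ShortComplex (Dᵒᵖ ⥤ AddCommGrpCat.{w}) := ShortComplex.mk _ _ zero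
  haveI : ∀ U, Epi ((homZClass Z I n).app U) := fun U =>
    (AddCommGrpCat.epi_iff_surjective _).2 (homZClass_surjective Z I n U)
  haveI : Epi S.g := NatTrans.epi_of_epi_app _
  have hS : S.Exact := by
    rw [ShortComplex.exact_iff_isZero_homology, Functor.isZero_iff]
    intro U
    have : (S.map ((evaluation Dᵒᵖ AddCommGrpCat.{w}).obj U)).Exact :=
      (ShortComplex.ab_exact_iff _).2 fun x hx => (homZClass_apply_eq_zero_iff Z I n U x).1 hx
    exact ((ShortComplex.exact_iff_isZero_homology _).1 this).of_iso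
      (S.mapHomologyIso ((evaluation Dᵒᵖ AddCommGrpCat.{w}).obj U)).symm
  exact ⟨IsColimit.coconePointUniqueUpToIso ((homCxZ Z I).homologyIsCokernel (n - 1) n (by simp)) hS.gIsCokernel⟩

section Sheaf

variable {C : Type u} [SmallCategory C] (J : GrothendieckTopology C)

/-- The free sheaves as a functor. -/
noncomputable abbrev freeFun : C ⥤ Sheaf J AddCommGrpCat.{u} :=
  yoneda ⋙ (Functor.whiskeringRight _ _ _).obj AddCommGrpCat.free.{u} ⋙ presheafToSheaf J AddCommGrpCat.{u}

/-- Sections are maps out of the free sheaves. -/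
noncomputable def secPreIso : homPre (freeFun J) ≅ sheafToPresheaf J AddCommGrpCat.{u} :=
  NatIso.ofComponents (fun F => NatIso.ofComponents (fun U => (CohLib.secAddEquiv J U.unop F).toAddCommGrpIso)
    (fun {U V} f => by
      ext t
      exact CohLib.secEquiv_precomp f.unop F t))
    (fun {F G} φ => by
      ext U t
      exact CohLib.secEquiv_comp U.unop φ t)

/-- Cohomology presheaves of a K-injective complex of sheaves. -/
theorem nonempty_secHomology_iso_HDUPresheaf [HasDerivedCategory.{u} (Sheaf J AddCommGrpCat.{u})]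
    (I : CochainComplex (Sheaf J AddCommGrpCat.{u}) ℤ) [I.IsKInjective] (n : ℤ) :
    Nonempty ((((sheafToPresheaf J AddCommGrpCat.{u}).mapHomologicalComplex (ComplexShape.up ℤ)).obj I).homology n ≅
      CohCx.HDUPresheaf (DerivedCategory.Q.obj I) n) := by
  obtain ⟨e⟩ := nonempty_homCxZ_homology_iso (freeFun J) I n
  exact ⟨ShortComplex.homologyMapIso ((I.sc n).mapNatIso (secPreIso J).symm) ≪≫ e ≪≫
    NatIso.ofComponents (fun _ => Iso.refl _) (fun f => (Category.comp_id _).trans (Category.id_comp _).symm)⟩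

end Sheaf

end LocSuppLib
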