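import Groth.Agent.LocSuppLib.KInjPresheaf
import Groth.Agent.LocSuppLib.LC
import Groth.Agent.S0481
import Mathlib.Algebra.Homology.DerivedCategory.DerivabilityStructureInjectives

/-! # Negative vanishing on a basis and the sheaf property of `H⁰` -/

universe u

set_option linter.style.haveILetI false
set_option linter.unusedSectionVars false

open CategoryTheory CategoryTheory.Limits Opposite TopologicalSpace
open Groth.Agent.DerLib

namespace LocSuppLib

variable {X Y : TopCat.{u}}

/-- Sections of a complex of sheaves, as a complex of presheaves. -/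
noncomputable abbrev secZ (I : CochainComplex (CohTop.Ab X) ℤ) :=
  ((sheafToPresheaf (Opens.grothendieckTopology X) AddCommGrpCat.{u}).mapHomologicalComplex
    (ComplexShape.up ℤ)).obj I

theorem isZero_homology_of_basis {B : Set (Opens Y)} (hB : Opens.IsBasis B) (L : CochainComplex (CohTop.Ab Y) ℤ)
    (n : ℤ) (h : ∀ V ∈ B, Subsingleton (((secZ L).homology n).obj (op V))) : IsZero (L.homology n) := by
  let J := Opens.grothendieckTopology Y
  let a := presheafToSheaf J AddCommGrpCat.{u}
  haveI : a.Additive := (sheafificationAdjunction J AddCommGrpCat.{u}).left_adjoint_additive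
  let S := L.sc n
  have e' : L.homology n ≅ a.obj ((secZ L).homology n) :=
    (ShortComplex.homologyMapIso ((S.mapNatIso (asIso (sheafificationAdjunction J AddCommGrpCat.{u}).counit)) ≪≫
      Iso.refl _)).symm ≪≫
    (S.map (sheafToPresheaf J AddCommGrpCat.{u})).mapHomologyIso a
  refine IsZero.of_iso ?_ e'
  rw [IsZero.iff_id_eq_zero]
  apply ((sheafificationAdjunction J AddCommGrpCat.{u}).homEquiv _ _).injective
  ext V s
  apply TopCat.Presheaf.section_ext (show TopCat.Sheaf AddCommGrpCat Y from a.obj ((secZ L).homology n)) V.unop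
  intro x hx
  obtain ⟨W, hW, hxW, hWV⟩ := Opens.isBasis_iff_nbhd.mp hB hx
  have := h W hW
  rw [← TopCat.Presheaf.germ_res_apply _ (homOfLE hWV) x hxW,
    ← TopCat.Presheaf.germ_res_apply _ (homOfLE hWV) x hxW]
  refine congrArg _ ?_
  refine (NatTrans.naturality_apply _ (homOfLE hWV).op s).symm.trans ?_
  refine Eq.trans ?_ (NatTrans.naturality_apply _ (homOfLE hWV).op s)
  rw [Subsingleton.elim (α := ((secZ L).homology n).obj (op W)) (((secZ L).homology n).map (homOfLE hWV).op s) 0]
  exact (map_zero _).trans (map_zero _).symm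

/-- Homs in the derived category into an object `≥ 0`. -/
theorem derived_secZ (L : CochainComplex (CohTop.Ab Y) ℤ) [L.IsKInjective]
    (hL : ∀ n : ℤ, n < 0 → IsZero (L.homology n)) :
    (∀ n : ℤ, n < 0 → IsZero ((secZ L).homology n)) ∧
      Presheaf.IsSheaf (Opens.grothendieckTopology Y) ((secZ L).homology 0) := by
  letI := HasDerivedCategory.standard (CohTop.Ab Y)
  haveI : (DerivedCategory.Q.obj L).IsGE 0 := by
    rw [DerivedCategory.isGE_iff]
    exact fun i hi => (hL i hi).of_iso ((DerivedCategory.homologyFunctorFactors (CohTop.Ab Y) i).app L)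
  obtain ⟨N, hN, ⟨e⟩⟩ := (DerivedCategory.Q.obj L).exists_iso_Q_obj_of_isGE 0
  haveI := hN
  obtain ⟨M, hM, i, hi⟩ := CochainComplex.Plus.exists_quasiIso_injective (⟨N, 0, hN⟩ : CochainComplex.Plus (CohTop.Ab Y)) 0
  let M' : CochainComplex (CohTop.Ab Y) ℤ := ((InjectiveObject.ι (CohTop.Ab Y)).mapHomologicalComplex (ComplexShape.up ℤ)).obj M.obj
  haveI : M'.IsStrictlyGE 0 := by
    rw [CochainComplex.isStrictlyGE_iff]
    exact fun k hk => (InjectiveObject.ι _).map_isZero ((CochainComplex.isStrictlyGE_iff _ _).1 hM k hk)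
  haveI : ∀ k, Injective (M'.X k) := fun k => (M.obj.X k).property
  haveI : M'.IsKInjective := CochainComplex.isKInjective_of_injective M' 0
  haveI : IsIso (DerivedCategory.Q.map (show N ⟶ M' from i.hom)) := by
    haveI : QuasiIso (show N ⟶ M' from i.hom) := hi
    infer_instance
  let e' : DerivedCategory.Q.obj L ≅ DerivedCategory.Q.obj M' :=
    e ≪≫ asIso (DerivedCategory.Q.map (show N ⟶ M' from i.hom))
  have key : ∀ n, Nonempty ((secZ L).homology n ≅ (secZ M').homology n) := fun n => by
    obtain ⟨φ, hφ⟩ := KInjUse.Q_map_surjective L M' e'.hom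
    obtain ⟨ψ, hψ⟩ := KInjUse.Q_map_surjective M' L e'.inv
    let q := HomotopyCategory.quotient (CohTop.Ab Y) (ComplexShape.up ℤ)
    have h1 : q.map (φ ≫ ψ - 𝟙 L) = 0 := KInjUse.quotient_eq_zero_of_Q
      (by rw [Functor.map_sub, Functor.map_comp, hφ, hψ, e'.hom_inv_id, CategoryTheory.Functor.map_id, sub_self])
    have h2 : q.map (ψ ≫ φ - 𝟙 M') = 0 := KInjUse.quotient_eq_zero_of_Q
      (by rw [Functor.map_sub, Functor.map_comp, hφ, hψ, e'.inv_hom_id, CategoryTheory.Functor.map_id, sub_self])
    rw [Functor.map_sub, sub_eq_zero] at h1 h2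
    let H : HomotopyEquiv L M' :=
      { hom := φ
        inv := ψ
        homotopyHomInvId := HomotopyCategory.homotopyOfEq _ _ h1
        homotopyInvHomId := HomotopyCategory.homotopyOfEq _ _ h2 }
    exact ⟨((sheafToPresheaf (Opens.grothendieckTopology Y) AddCommGrpCat.{u}).mapHomotopyEquiv H).toHomologyIso n⟩
  constructor
  · intro n hn
    obtain ⟨a⟩ := key n
    refine IsZero.of_iso ?_ a
    exact ShortComplex.isZero_homology_of_isZero_X₂ _
      ((sheafToPresheaf (Opens.grothendieckTopology Y) AddCommGrpCat.{u}).map_isZero (M'.isZero_of_isStrictlyGE 0 n hn))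
  · obtain ⟨a⟩ := key 0
    rw [Presheaf.isSheaf_of_iso_iff a]
    let G := sheafToPresheaf (Opens.grothendieckTopology Y) AddCommGrpCat.{u}
    haveI : IsIso ((secZ M').homologyπ 0) := by
      refine ShortComplex.isIso_homologyπ ((secZ M').sc 0) ?_
      exact (G.map_isZero (M'.isZero_of_isStrictlyGE 0 _ (by simp))).eq_of_src _ _
    rw [Presheaf.isSheaf_of_iso_iff ((asIso ((secZ M').homologyπ 0)).symm ≪≫
      ((secZ M').sc 0).cyclesIsoKernel ≪≫ (PreservesKernel.iso G (M'.sc 0).g).symm)]
    exact (kernel (M'.sc 0).g).property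

theorem negative_vanishing_and_isSheaf (f : X ⟶ Y) [HasDerivedCategory.{u} (CohTop.Ab X)] (B : Set (Opens Y))
    (hB : Opens.IsBasis B) (K : DerivedCategory (CohTop.Ab X))
    (h : ∀ V ∈ B, ∀ i : ℤ, i < 0 → Subsingleton (CohCx.HDU K i ((Opens.map f).obj V))) :
    (∀ (V : Opens Y) (i : ℤ), i < 0 → Subsingleton (CohCx.HDU K i ((Opens.map f).obj V))) ∧
    Presheaf.IsSheaf (Opens.grothendieckTopology Y) ((Opens.map f).op ⋙ CohCx.HDUPresheaf K 0) := by
  obtain ⟨I, hI, ⟨e⟩⟩ := KInjUse.exists_iso_Q_kInjective K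
  haveI := hI
  let P := CohTop.push f
  haveI : PreservesFiniteLimits (CohTop.pull f) := CohTopLib.preservesFiniteLimits_pull f
  haveI : PreservesColimitsOfSize.{0, 0} (CohTop.pull f) :=
    (TopCat.Sheaf.pullbackPushforwardAdjunction AddCommGrpCat.{u} f).leftAdjoint_preservesColimits
  haveI : PreservesFiniteColimits (CohTop.pull f) := PreservesColimitsOfSize.preservesFiniteColimits _
  haveI : (CohTop.pull f).Additive := Functor.additive_of_preserves_binary_products _
  let L : CochainComplex (CohTop.Ab Y) ℤ := (P.mapHomologicalComplex (ComplexShape.up ℤ)).obj I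
  haveI : L.IsKInjective := Groth.Agent.S0481.result P (CohTop.pull f)
    (TopCat.Sheaf.pullbackPushforwardAdjunction AddCommGrpCat.{u} f) I hI
  let W := (Functor.whiskeringLeft (Opens Y)ᵒᵖ (Opens X)ᵒᵖ AddCommGrpCat.{u}).obj (Opens.map f).op
  have key : ∀ n, Nonempty ((secZ L).homology n ≅ (Opens.map f).op ⋙ CohCx.HDUPresheaf K n) := fun n => by
    obtain ⟨a⟩ := nonempty_secHomology_iso_HDUPresheaf (Opens.grothendieckTopology X) I n
    exact ⟨((secZ I).sc n).mapHomologyIso W ≪≫ W.mapIso (a ≪≫
      Functor.isoWhiskerLeft _ (preadditiveYoneda.mapIso ((shiftFunctor _ n).mapIso e.symm)))⟩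
  have hL : ∀ n : ℤ, n < 0 → IsZero (L.homology n) := fun n hn => isZero_homology_of_basis hB L n fun V hV => by
    obtain ⟨a⟩ := key n
    haveI : Subsingleton (((Opens.map f).op ⋙ CohCx.HDUPresheaf K n).obj (op V)) := h V hV n hn
    exact (a.app (op V)).addCommGroupIsoToAddEquiv.toEquiv.subsingleton
  obtain ⟨h1, h2⟩ := derived_secZ L hL
  refine ⟨fun V i hi => ?_, ?_⟩
  · obtain ⟨a⟩ := key i
    exact AddCommGrpCat.subsingleton_of_isZero (((h1 i hi).of_iso a.symm).obj (op V))
  · obtain ⟨a⟩ := key 0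
    exact (Presheaf.isSheaf_of_iso_iff a).1 h2

end LocSuppLib
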