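import Groth.Agent.LocSuppLib.General
import Groth.Agent.CohLib.OverRestrict
import Groth.Agent.CohTopLib.Basic
import Groth.Agent.QCohLib.AbCoh
import Groth.Prelude.Def_LocCohZ
import Mathlib.Topology.Sheaves.Over

/-!
# Local cohomology sheaves of an open complement
-/

universe u

open CategoryTheory CategoryTheory.Limits TopologicalSpace Opposite

set_option linter.style.haveILetI false

namespace LocSuppLib

variable {X : TopCat.{u}} (U : Opens X)

instance : (U.isOpenEmbedding.isOpenMap.functor).IsContinuous
    (Opens.grothendieckTopology (TopCat.of U)) (Opens.grothendieckTopology X) :=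
  Topology.IsOpenEmbedding.functor_isContinuous U.isOpenEmbedding

/-- Restriction to an open is left adjoint to the direct image. -/
noncomputable def restrPushAdj : CohTop.restrFunctor U ⊣ CohTop.push (CohCx.incl U) :=
  haveI : (Opens.map U.inclusion').IsContinuous (Opens.grothendieckTopology X)
      (Opens.grothendieckTopology (TopCat.of U)) :=
    Functor.isContinuous_of_coverPreserving (compatiblePreserving_opens_map (CohCx.incl U))
      (coverPreserving_opens_map (CohCx.incl U))
  CategoryTheory.Adjunction.sheafPushforwardContinuous U.isOpenEmbedding.isOpenMap.adjunction _ _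

/-- The inverse image along an open inclusion is the restriction. -/
noncomputable def pullIsoRestr : CohTop.pull (CohCx.incl U) ≅ CohTop.restrFunctor U :=
  Adjunction.leftAdjointUniq (TopCat.Sheaf.pullbackPushforwardAdjunction AddCommGrpCat.{u} (CohCx.incl U))
    (restrPushAdj U)

lemma injective_restr (I : CohTop.Ab X) [Injective I] : Injective ((CohTop.restrFunctor U).obj I) :=
  haveI := CohLib.injective_restrOver (Opens.grothendieckTopology X) U I
  Injective.injective_of_adjoint (U.sheafEquivOver (A := AddCommGrpCat.{u})).symm.toAdjunction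
    ((CohLib.restrOver (Opens.grothendieckTopology X) U).obj I)

instance : (CohTop.pull (CohCx.incl U)).PreservesInjectiveObjects where
  injective_obj {I} hI :=
    Injective.of_iso ((pullIsoRestr U).app I).symm (@injective_restr X U I hI)

instance : (CohTop.pull (CohCx.incl U)).Additive :=
  Functor.additive_of_iso (pullIsoRestr U).symm

instance : PreservesFiniteLimits (CohTop.pull (CohCx.incl U)) :=
  CohTopLib.preservesFiniteLimits_pull _

instance : PreservesFiniteColimits (CohTop.pull (CohCx.incl U)) :=
  haveI : PreservesColimitsOfSize.{0, 0} (CohTop.pull (CohCx.incl U)) :=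
    (TopCat.Sheaf.pullbackPushforwardAdjunction AddCommGrpCat.{u} (CohCx.incl U)).leftAdjoint_preservesColimits
  PreservesColimitsOfSize.preservesFiniteColimits _

instance : (CohTop.push (CohCx.incl U)).Additive where

instance : PreservesFiniteLimits (CohTop.push (CohCx.incl U)) :=
  haveI : PreservesLimitsOfSize.{0, 0} (CohTop.push (CohCx.incl U)) :=
    (TopCat.Sheaf.pullbackPushforwardAdjunction AddCommGrpCat.{u} (CohCx.incl U)).rightAdjoint_preservesLimits
  PreservesLimitsOfSize.preservesFiniteLimits _

lemma epi_unit_restr (I : CohTop.Ab X) [Injective I] : Epi ((restrPushAdj U).unit.app I) := by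
  haveI := QCohLib.isFlasque_of_injective I
  haveI : ∀ V, Epi (((restrPushAdj U).unit.app I).hom.app V) := fun V =>
    TopCat.Presheaf.IsFlasque.epi (F := (I : TopCat.Sheaf AddCommGrpCat X).obj)
      (U.isOpenEmbedding.isOpenMap.adjunction.counit.app V.unop).op
  haveI : Epi ((sheafToPresheaf (Opens.grothendieckTopology X) AddCommGrpCat.{u}).map
      ((restrPushAdj U).unit.app I)) := NatTrans.epi_of_epi_app ((restrPushAdj U).unit.app I).hom
  exact (sheafToPresheaf (Opens.grothendieckTopology X) AddCommGrpCat.{u}).epi_of_epi_map this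

/-- The inclusion of sections with supports. -/
noncomputable def suppι : LocCohZ.sectSuppF U ⟶ 𝟭 (CohTop.Ab X) where
  app F := kernel.ι ((TopCat.Sheaf.pullbackPushforwardAdjunction AddCommGrpCat.{u} (CohCx.incl U)).unit.app F)
  naturality _ _ _ := kernel.lift_ι _ _ _

/-- The unit. -/
noncomputable abbrev unitU : 𝟭 (CohTop.Ab X) ⟶ CohTop.pull (CohCx.incl U) ⋙ CohTop.push (CohCx.incl U) :=
  (TopCat.Sheaf.pullbackPushforwardAdjunction AddCommGrpCat.{u} (CohCx.incl U)).unit

lemma suppι_comp_unit : suppι U ≫ unitU U = 0 := by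
  apply NatTrans.ext
  funext F
  exact kernel.condition ((TopCat.Sheaf.pullbackPushforwardAdjunction AddCommGrpCat.{u} (CohCx.incl U)).unit.app F)

lemma shortExact_supp (I : CohTop.Ab X) (hI : Injective I) :
    (ShortComplex.mk ((suppι U).app I)
      ((unitU U).app I)
      (congr_app (suppι_comp_unit U) I)).ShortExact := by
  haveI := hI
  refine { exact := ShortComplex.exact_of_f_is_kernel _ (kernelIsKernel _), mono_f := ?_, epi_g := ?_ }
  · exact equalizer.ι_mono
  · haveI := epi_unit_restr U I
    have e := Adjunction.unit_leftAdjointUniq_hom_app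
      (TopCat.Sheaf.pullbackPushforwardAdjunction AddCommGrpCat.{u} (CohCx.incl U)) (restrPushAdj U) I
    haveI : IsIso ((CohTop.push (CohCx.incl U)).map ((pullIsoRestr U).hom.app I)) := inferInstance
    exact (MorphismProperty.cancel_right_of_respectsIso (MorphismProperty.epimorphisms _) _
      ((CohTop.push (CohCx.incl U)).map ((pullIsoRestr U).hom.app I))).1
      (show Epi _ by rw [show pullIsoRestr U = _ from rfl]; exact e ▸ epi_unit_restr U I)

theorem hzsh_iso :
    Nonempty (LocCohZ.HZsh U 1 ≅
      cokernel (TopCat.Sheaf.pullbackPushforwardAdjunction AddCommGrpCat.{u} (CohCx.incl U)).unit) ∧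
    ∀ i : ℕ, 1 ≤ i →
      Nonempty (LocCohZ.HZsh U (i + 1) ≅ CohTop.pull (CohCx.incl U) ⋙ CohTop.Rpush (CohCx.incl U) i) := by
  refine ⟨nonempty_firstIso (T := LocCohZ.sectSuppF U) (P := CohTop.pull (CohCx.incl U) ⋙ CohTop.push (CohCx.incl U))
    (suppι U) _ (suppι_comp_unit U) (shortExact_supp U), fun i hi =>
    ⟨shiftIso (T := LocCohZ.sectSuppF U) (P := CohTop.pull (CohCx.incl U) ⋙ CohTop.push (CohCx.incl U))
      (suppι U) _ (suppι_comp_unit U) (shortExact_supp U) i hi ≪≫
      compIso (CohTop.pull (CohCx.incl U)) (CohTop.push (CohCx.incl U)) i⟩⟩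

end LocSuppLib
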