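import Groth.Agent.LocSuppLib.KInjPresheaf
import Groth.Agent.S0488
import Groth.Agent.CohTopLib.Basic
import Groth.Prelude.Def_CohCx
import Mathlib.Algebra.Homology.DerivedCategory.ExactFunctor

/-! # Hypercohomology over an open and restriction -/

universe u

set_option linter.style.haveILetI false

open CategoryTheory CategoryTheory.Limits Opposite TopologicalSpace
open Groth.Agent.DerLib

namespace LocSuppLib

variable {X : TopCat.{u}} (U : Opens X)

theorem nonempty_HDU_restr_equiv [HasDerivedCategory.{u} (CohTop.Ab X)]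
    [HasDerivedCategory.{u} (CohTop.Ab (TopCat.of U))] [PreservesFiniteLimits (CohTop.restrFunctor U)]
    [PreservesFiniteColimits (CohTop.restrFunctor U)] (K : DerivedCategory (CohTop.Ab X)) (p : ℤ) :
    Nonempty (CohCx.HDU K p U ≃+ CohCx.HDU ((CohTop.restrFunctor U).mapDerivedCategory.obj K) p ⊤) := by
  obtain ⟨I, hI, ⟨e⟩⟩ := KInjUse.exists_iso_Q_kInjective K
  haveI := hI
  let R := CohTop.restrFunctor U
  let L : CochainComplex (CohTop.Ab (TopCat.of U)) ℤ := (R.mapHomologicalComplex (ComplexShape.up ℤ)).obj I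
  haveI : L.IsKInjective := Groth.Agent.S0488.result U I hI
  obtain ⟨a⟩ := nonempty_secHomology_iso_HDUPresheaf (Opens.grothendieckTopology X) I p
  obtain ⟨b⟩ := nonempty_secHomology_iso_HDUPresheaf (Opens.grothendieckTopology (TopCat.of U)) L p
  let S := ((sheafToPresheaf (Opens.grothendieckTopology X) AddCommGrpCat.{u}).mapHomologicalComplex
    (ComplexShape.up ℤ)).obj I
  let W := (Functor.whiskeringLeft (Opens (TopCat.of U))ᵒᵖ (Opens X)ᵒᵖ AddCommGrpCat.{u}).obj
    U.isOpenEmbedding.isOpenMap.functor.op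
  let c := ((S.sc p).mapHomologyIso W).app (op ⊤)
  let ψ : R.mapDerivedCategory.obj K ≅ DerivedCategory.Q.obj L :=
    R.mapDerivedCategory.mapIso e ≪≫ R.mapDerivedCategoryFactors.app I
  exact ⟨((Functor.isoWhiskerLeft _ (preadditiveYoneda.mapIso ((shiftFunctor _ p).mapIso e))).app (op U) ≪≫
    a.symm.app (op U) ≪≫ (S.homology p).mapIso (eqToIso (CohTopLib.img_top U)).op ≪≫ c.symm ≪≫
    b.app (op ⊤) ≪≫
    (Functor.isoWhiskerLeft _ (preadditiveYoneda.mapIso ((shiftFunctor _ p).mapIso ψ.symm))).app (op ⊤)).addCommGroupIsoToAddEquiv⟩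

end LocSuppLib
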