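import Groth.Agent.CohLib.SuppPush
import Groth.Agent.LocSuppLib.ClosedPre

/-! # The sequence of a triple -/

universe u

set_option linter.style.haveILetI false

open CategoryTheory CategoryTheory.Limits Opposite TopologicalSpace CategoryTheory.Abelian

namespace LocSuppLib

variable {X : TopCat.{u}} {W V : Opens X}

theorem exists_triple_shortExact {T : Opens X} (hWV : W ≤ V) (hVT : V ≤ T) :
    ∃ w : LocCohZ.zqMap (hWV.trans hVT) hWV le_rfl hVT ≫ LocCohZ.zqMap hVT (hWV.trans hVT) hWV le_rfl = 0,
      (ShortComplex.mk _ _ w).ShortExact := by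
  let a := CohCx.freeSheafMap (Opens.grothendieckTopology X) (homOfLE hWV)
  let b := CohCx.freeSheafMap (Opens.grothendieckTopology X) (homOfLE hVT)
  let c := CohCx.freeSheafMap (Opens.grothendieckTopology X) (homOfLE (hWV.trans hVT))
  have hab : a ≫ b = c := (CohFree.freeSheafMap_comp _ _ _).symm
  let f := LocCohZ.zqMap (hWV.trans hVT) hWV le_rfl hVT
  let g := LocCohZ.zqMap hVT (hWV.trans hVT) hWV le_rfl
  have hf : cokernel.π a ≫ f = b ≫ cokernel.π c := cokernel.π_desc _ _ _
  have hg : cokernel.π c ≫ g = cokernel.π b := by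
    refine (cokernel.π_desc _ _ _).trans ?_
    have hid : CohCx.freeSheafMap (Opens.grothendieckTopology X) (homOfLE (le_rfl : T ≤ T)) = 𝟙 _ := by
      simp [CohCx.freeSheafMap]
    exact (congrArg (· ≫ cokernel.π b) hid).trans (Category.id_comp _)
  have w : f ≫ g = 0 := by
    rw [← cancel_epi (cokernel.π a), reassoc_of% hf, hg, cokernel.condition, comp_zero]
  haveI : Epi g := by
    haveI : Epi (cokernel.π c ≫ g) := by rw [hg]; infer_instance
    exact epi_of_epi (cokernel.π c) g
  haveI : Mono b := (LocCohZ.zqSeq_shortExact hVT).mono_f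
  haveI : Mono f := by
    refine Preadditive.mono_of_cancel_zero _ fun {A} x hx => ?_
    obtain ⟨A', π, hπ, y, hy⟩ := surjective_up_to_refinements_of_epi (cokernel.π a) x
    have h1 : (y ≫ b) ≫ cokernel.π c = 0 := by
      rw [Category.assoc, ← hf, ← Category.assoc, ← hy, Category.assoc, hx, comp_zero]
    obtain ⟨A'', π', hπ', z, hz⟩ :=
      (ShortComplex.exact_iff_exact_up_to_refinements _).1 (LocCohZ.zqSeq_shortExact (hWV.trans hVT)).exact
        (y ≫ b) h1
    change π' ≫ y ≫ b = z ≫ c at hz
    rw [← hab, ← Category.assoc] at hz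
    replace hz : (π' ≫ y) ≫ b = (z ≫ a) ≫ b := hz.trans (Category.assoc _ _ _).symm
    replace hz := (cancel_mono b).1 hz
    rw [← cancel_epi π, ← cancel_epi π', comp_zero, comp_zero, hy, ← Category.assoc, hz, Category.assoc]
    exact (congrArg (z ≫ ·) (cokernel.condition a)).trans comp_zero
  refine ⟨w, { exact := ?_, mono_f := ‹Mono f›, epi_g := ‹Epi g› }⟩
  refine ShortComplex.exact_of_g_is_cokernel _ (CokernelCofork.IsColimit.ofπ' _ _ fun {Z} k hk => ?_)
  have h1 : b ≫ cokernel.π c ≫ k = 0 := by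
    rw [← Category.assoc, ← hf, Category.assoc]
    exact (congrArg (cokernel.π a ≫ ·) hk).trans comp_zero
  refine ⟨cokernel.desc b _ h1, ?_⟩
  apply (cancel_epi (cokernel.π c)).1
  refine (Category.assoc _ _ _).symm.trans ?_
  exact (congrArg (· ≫ cokernel.desc b _ h1) hg).trans (cokernel.π_desc _ _ _)

end LocSuppLib
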